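import Cfsg.Agent.Lib.Fischer.TypeM24.Pairs

/-!
# The matched neighbourhood groups agree on triangles

An exchange of a member and a neighbour matched with the same sign extends the isomorphism of the centralizers of
a member to all neighbours, coherently on every triangle.
-/

set_option autoImplicit false
set_option linter.unusedSectionVars false

namespace Cfsg.Lib.Fischer.M24

open Cfsg Cfsg.Lib.Fischer Cfsg.Lib.Fischer.Relations Exchange

universe u v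

variable {G₁ : Type u} {G₂ : Type v} [Group G₁] [Finite G₁] [Group G₂] [Finite G₂]
  {D₁ : Set G₁} {d₁ : G₁} {D₂ : Set G₂} {d₂ : G₂} {φ : G₁ → G₂}

/-- Matched exchanges of the member and the neighbour `a`. -/
structure Seed (D₁ : Set G₁) (d₁ : G₁) (d₂ : G₂) (φ : G₁ → G₂) (a : G₁) (t : G₁ × G₂) : Prop where
  mem : a ∈ perp D₁ d₁
  sq₁ : t.1 * t.1 = 1
  sq₂ : t.2 * t.2 = 1
  move₁ : t.1 * d₁ * t.1 = a
  move₂ : t.2 * d₂ * t.2 = φ a
  str : ∀ g, Commute g d₁ → Commute g a → Str φ t g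

/-- The isomorphism transported to the neighbour. -/
def lift (φ : G₁ → G₂) (t : G₁ × G₂) (g : G₁) : G₂ := t.2 * φ (t.1 * g * t.1) * t.2

namespace Seed

variable {a : G₁} {t : G₁ × G₂} (S : Seed D₁ d₁ d₂ φ a t)
include S

theorem inv₁ : t.1⁻¹ = t.1 := inv_eq_of_mul_eq_one_right S.sq₁

theorem inv₂ : t.2⁻¹ = t.2 := inv_eq_of_mul_eq_one_right S.sq₂

theorem back₁ : t.1 * a * t.1 = d₁ := conj_self_mul S.sq₁ S.move₁

theorem to_d {g : G₁} (hg : Commute g a) : Commute (t.1 * g * t.1) d₁ := by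
  have := (Commute.conj_iff t.1).2 hg
  rwa [S.inv₁, S.back₁] at this

theorem to_a {g : G₁} (hg : Commute g d₁) : Commute (t.1 * g * t.1) a := by
  have := (Commute.conj_iff t.1).2 hg
  rwa [S.inv₁, S.move₁] at this

theorem apply {g : G₁} (h1 : Commute g d₁) (h2 : Commute g a) : φ (t.1 * g * t.1) = t.2 * φ g * t.2 := by
  have := S.str g h1 h2
  rwa [Str, S.inv₁, S.inv₂] at this

theorem fix {g : G₁} (h1 : Commute g d₁) (h2 : Commute g a) : lift φ t g = φ g := by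
  rw [lift, S.apply h1 h2, show t.2 * (t.2 * φ g * t.2) * t.2 = t.2 * t.2 * φ g * (t.2 * t.2) by group, S.sq₂]
  group

variable (P : Twin D₁ d₁ D₂ d₂ φ)
include P

theorem lift_mul {g h : G₁} (hg : Commute g a) (hh : Commute h a) :
    lift φ t (g * h) = lift φ t g * lift φ t h := by
  rw [lift, lift, lift, show t.1 * (g * h) * t.1 = t.1 * g * (t.1 * t.1) * h * t.1 by rw [S.sq₁]; group,
    show t.1 * g * (t.1 * t.1) * h * t.1 = (t.1 * g * t.1) * (t.1 * h * t.1) by group,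
    P.mul _ _ (S.to_d hg) (S.to_d hh),
    show t.2 * φ (t.1 * g * t.1) * t.2 * (t.2 * φ (t.1 * h * t.1) * t.2) =
      t.2 * φ (t.1 * g * t.1) * (t.2 * t.2) * φ (t.1 * h * t.1) * t.2 by group, S.sq₂]
  group

theorem lift_inj {g h : G₁} (hg : Commute g a) (hh : Commute h a) (e : lift φ t g = lift φ t h) : g = h := by
  have := P.inj _ _ (S.to_d hg) (S.to_d hh) (mul_left_cancel (mul_right_cancel e))
  exact mul_left_cancel (mul_right_cancel this)

theorem lift_perp (K₁ : M24Data D₁ d₁) (K₂ : M24Data D₂ d₂) {x : G₁} (hx : x ∈ perp D₁ a) :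
    lift φ t x ∈ perp D₂ (φ a) := by
  have h1 : t.1 * x * t.1 ∈ perp D₁ d₁ := by
    have := conj_perp K₁.fis t.1 a hx
    rwa [S.inv₁, S.back₁] at this
  have := conj_perp K₂.fis t.2 d₂ (P.mem h1)
  rwa [S.inv₂, S.move₂] at this

end Seed

section Sign

variable (K₁ : M24Data D₁ d₁) (K₂ : M24Data D₂ d₂) (P : Twin D₁ d₁ D₂ d₂ φ)
include K₁ K₂ P

omit K₁ P in
/-- Three commuting members and a further one not commuting with the first. -/
theorem no_fix {b p q u : G₂} (hb : b ∈ D₂) (ht : Triad D₂ b p q) (hu : u ∈ D₂) (hub : ¬ Commute u b)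
    (h : Commute u (b * p * q)) : False := by
  have hm := K₂.tri_perm hb ht h b (by simp)
  simp only [List.mem_cons, List.not_mem_nil, or_false] at hm
  have hbr : u * b * u = b * u * b := by
    have := braid K₂.trans hu hb hub
    simpa [cj_def, mul_assoc] using this
  have key : ∀ e, Commute b e → u * b * u⁻¹ = e → False := fun e he h' => by
    rw [inv_eq K₂.trans hu, hbr] at h'
    subst h'
    refine hub ?_
    show u * b = b * u
    have e' := he.eq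
    rw [show b * (b * u * b) = b * b * (u * b) by group, show b * u * b * b = b * u * (b * b) by group,
      mul_self K₂.trans hb, one_mul, mul_one] at e'
    exact e'
  rcases hm with e | e | e
  exacts [key _ (Commute.refl b) e, key _ ht.dy.2.2 e, key _ ht.dz.2.2 e]

/-- A matched exchange of the same sign. -/
theorem exists_seed {χ₁ : G₁ →* ℤˣ} {χ₂ : G₂ →* ℤˣ} (h₁ : ∀ x ∈ D₁, χ₁ x = -1) (h₂ : ∀ x ∈ D₂, χ₂ x = -1) :
    ∃ a t, Seed D₁ d₁ d₂ φ a t ∧ χ₂ t.2 = χ₁ t.1 := by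
  obtain ⟨a, ha, -⟩ := exists_nbr K₁ K₁.mem
  obtain ⟨y, hy, hdy, hay⟩ := exists_far_both K₁ ha
  obtain ⟨p, q, hpD, hqD, hp, hq, hpq, hcpq, hss, hsd, hsa⟩ :=
    swap_pair K₁.trans K₁.mem ha.1 hy ha.2.2 ha.2.1.symm hdy hay
  obtain ⟨s₂, hs₂, hs₂d, hstr⟩ := exists_match K₁ K₂ P ha hss hsd
  refine ⟨a, (p * q, s₂), ⟨ha, hss, hs₂, hsd, hs₂d, hstr⟩, ?_⟩
  show χ₂ s₂ = χ₁ (p * q)
  rw [map_mul, h₁ p hpD, h₁ q hqD]
  obtain ⟨a', a'', ha', ha'', haa', haa'', hn⟩ :=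
    exists_two K₁ hy hdy ha fun h => hay h.symm
  obtain ⟨y', hy', hdy', hay'⟩ := exists_far_both K₁ ha'.1
  obtain ⟨p', q', -, -, -, -, -, -, hrr, hrd, -⟩ :=
    swap_pair K₁.trans K₁.mem ha'.1.1 hy' ha'.1.2.2 ha'.1.2.1.symm hdy' hay'
  obtain ⟨r₂, hr₂, hr₂d, hrstr⟩ := exists_match K₁ K₂ P ha'.1 hrr hrd
  have S' : Seed D₁ d₁ d₂ φ a' (p' * q', r₂) := ⟨ha'.1, hrr, hr₂, hrd, hr₂d, hrstr⟩
  obtain ⟨L, hL⟩ : ∃ L, L = lift φ (p' * q', r₂) := ⟨_, rfl⟩
  have hne' : a' ≠ a := fun e => hay (e ▸ ha'.2.symm)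
  -- what commutes with d, a and y commutes with the two members
  have hcy : ∀ x, Commute d₁ x → Commute y x → Commute p x ∧ (Commute a x → Commute q x) := fun x hdx hyx => by
    rw [hp, hq]
    exact ⟨(hyx.mul_left hdx).mul_left hyx, fun hax => (hyx.mul_left hax).mul_left hyx⟩
  have hpa : Commute p a' := (hcy a' ha'.1.2.2 ha'.2).1
  have hqa : Commute q a' := (hcy a' ha'.1.2.2 ha'.2).2 haa'
  have hyy := mul_self K₁.trans hy
  have hcv : ∀ x, Commute y x → ∀ w, y * w * y = x → w = x := fun x hx w e => by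
    rw [← conj_self_mul hyy e, hx.eq, mul_assoc, hyy, mul_one]
  have hpp : p ∈ perp D₁ a' := ⟨hpD, fun e => ha'.1.2.1 (hcv a' ha'.2 d₁ (hp ▸ e)).symm, hpa.symm⟩
  have hqp : q ∈ perp D₁ a' := ⟨hqD, fun e => hne' (hcv a' ha'.2 a (hq ▸ e)).symm, hqa.symm⟩
  have hP := S'.lift_perp P K₁ K₂ hpp
  have hQ := S'.lift_perp P K₁ K₂ hqp
  rw [← hL] at hP hQ
  have hPQ : Commute (L p) (L q) := by
    show L p * L q = L q * L p
    rw [hL, ← S'.lift_mul P hpa hqa, ← S'.lift_mul P hqa hpa, hcpq.eq]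
  have hPne : L p ≠ L q := fun e => hpq (S'.lift_inj P hpa hqa (hL ▸ e))
  have hT : Triad D₂ (φ a') (L p) (L q) := ⟨hP, hQ, hQ.1, fun e => hPne e.symm, hPQ⟩
  have hsa' : Commute (p * q) a' := hpa.mul_left hqa
  obtain ⟨Sg, hSdef⟩ : ∃ Sg, Sg = L p * L q := ⟨_, rfl⟩
  have hS : Sg = L (p * q) := by rw [hSdef, hL, S'.lift_mul P hpa hqa]
  have hSS : Sg * Sg = 1 := by
    rw [hS, hL, ← S'.lift_mul P hsa' hsa', hss, S'.fix (Commute.one_left _) (Commute.one_left _), P.map_one]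
  have hfix : ∀ g, Commute g d₁ → Commute g a' → L g = φ g := fun g u v => hL ▸ S'.fix u v
  have hLd : L d₁ = d₂ := by rw [hfix d₁ (Commute.refl _) ha'.1.2.2, P.base]
  have hLa : L a = φ a := hfix a ha.2.2.symm haa'
  have hconj : ∀ g, Commute g a' → Sg * L g * Sg = L (p * q * g * (p * q)) := fun g hg => by
    rw [hS, hL, S'.lift_mul P (hsa'.mul_left hg) hsa', S'.lift_mul P hsa' hg]
  have hSd : Sg * d₂ * Sg = φ a := by rw [← hLd, hconj d₁ ha'.1.2.2, hsd, hLa]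
  have hSb : Sg * φ a * Sg = d₂ := by rw [← hLa, hconj a haa', hsa, hLd]
  have hPb : Commute (φ a') (L p) := hP.2.2
  have hQb : Commute (φ a') (L q) := hQ.2.2
  have hSb' : Commute Sg (φ a') := hSdef ▸ (hPb.mul_right hQb).symm
  have happ : ∀ g, Commute g d₁ → Commute g a → φ (p * q * g * (p * q)) = s₂ * φ g * s₂ := fun g u v =>
    (Seed.mk ha hss hs₂ hsd hs₂d hstr).apply u v
  have hpres : ∀ g, Commute g a' → Commute (p * q * g * (p * q)) a' := fun g hg =>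
    (hsa'.mul_left hg).mul_left hsa'
  have hpresd : ∀ g, Commute g a → Commute (p * q * g * (p * q)) d₁ := fun g hg =>
    (Seed.mk ha hss hs₂ hsd hs₂d hstr).to_d hg
  obtain ⟨δ, hδ⟩ : ∃ δ, δ = Sg * s₂ := ⟨_, rfl⟩
  have hsame : ∀ g, Commute g d₁ → Commute g a → Commute g a' → s₂ * φ g * s₂ = Sg * φ g * Sg := fun g u v w => by
    rw [← happ g u v, ← hfix g u w, hconj g w, hfix _ (hpresd g v) (hpres g w)]
  have hs₂i : s₂⁻¹ = s₂ := inv_eq_of_mul_eq_one_right hs₂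
  have hSi : Sg⁻¹ = Sg := inv_eq_of_mul_eq_one_right hSS
  have hδc : ∀ g, Commute g d₁ → Commute g a → Commute g a' → Commute δ (φ g) := fun g u v w => by
    refine mul_inv_eq_iff_eq_mul.1 ?_
    rw [hδ, mul_inv_rev, hs₂i, hSi, show Sg * s₂ * φ g * (s₂ * Sg) = Sg * (s₂ * φ g * s₂) * Sg by group,
      hsame g u v w, show Sg * (Sg * φ g * Sg) * Sg = Sg * Sg * φ g * (Sg * Sg) by group, hSS]
    group
  have hb := P.mem ha
  have hb' := P.mem ha'.1
  have hbb' : φ a' ∈ perp D₂ (φ a) :=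
    ⟨hb'.1, fun e => hne' (P.inj _ _ ha'.1.2.2.symm ha.2.2.symm e), (P.commute_iff ha.2.2.symm ha'.1.2.2.symm).2 haa'⟩
  have δd : Commute δ d₂ := P.base ▸ hδc d₁ (Commute.refl _) ha.2.2 ha'.1.2.2
  have δb : Commute δ (φ a) := hδc a ha.2.2.symm (Commute.refl _) haa'
  have δb' : Commute δ (φ a') := hδc a' ha'.1.2.2.symm haa'.symm (Commute.refl _)
  obtain ⟨x, hx, hδx⟩ := tri_center K₂ K₂.mem ⟨hb, hb', hbb'⟩ δd δb δb' fun k u v w => by
    obtain ⟨g, hg, rfl⟩ := P.surj k u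
    exact hδc g hg ((P.commute_iff hg ha.2.2.symm).1 v) ((P.commute_iff hg ha'.1.2.2.symm).1 w)
  have hdd := mul_self K₂.trans K₂.mem
  have hbb := mul_self K₂.trans hb.1
  have hb'b' := mul_self K₂.trans hb'.1
  have hx2 : x * x = 1 := by
    rcases hx with rfl | rfl | rfl | rfl
    · simp
    · exact hdd
    · exact hbb
    · rw [show d₂ * φ a * (d₂ * φ a) = d₂ * (φ a * d₂) * φ a by group, hb.2.2.symm.eq,
        show d₂ * (d₂ * φ a) * φ a = d₂ * d₂ * (φ a * φ a) by group, hdd, hbb, one_mul]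
  have hxb' : Commute x (φ a') := by
    rcases hx with rfl | rfl | rfl | rfl
    exacts [Commute.one_left _, hb'.2.2, hbb'.2.2, hb'.2.2.mul_left hbb'.2.2]
  have hδ2 : δ * δ = 1 := by
    rcases hδx with rfl | rfl
    · exact hx2
    · rw [show x * φ a' * (x * φ a') = x * (φ a' * x) * φ a' by group, hxb'.symm.eq,
        show x * (x * φ a') * φ a' = x * x * (φ a' * φ a') by group, hx2, hb'b', one_mul]
  have hδS : Sg * δ * Sg = δ := by
    rw [hδ, show Sg * (Sg * s₂) * Sg = Sg * Sg * (s₂ * Sg) by group, hSS, one_mul]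
    rw [hδ] at hδ2
    have h := eq_inv_of_mul_eq_one_left hδ2
    rw [mul_inv_rev, hs₂i, hSi] at h
    exact h.symm
  have hne : d₂ ≠ φ a := hb.2.1.symm
  have hSb'' : Sg * φ a' * Sg = φ a' := by rw [hSb'.eq, mul_assoc, hSS, mul_one]
  have hs₂eq : s₂ = Sg * δ := by rw [hδ, ← mul_assoc, hSS, one_mul]
  have hχS : χ₂ Sg = 1 := by rw [hSdef, map_mul, h₂ _ hP.1, h₂ _ hQ.1]; decide
  have hodd : ∀ p₂ q₂, Triad D₂ (φ a') p₂ q₂ → s₂ = φ a' * p₂ * q₂ → False := fun p₂ q₂ ht e => by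
    have hb'' := P.mem ha''.1
    have hpa'' : Commute p a'' := (hcy a'' ha''.1.2.2 ha''.2).1
    have hqa'' : Commute q a'' := (hcy a'' ha''.1.2.2 ha''.2).2 haa''
    refine no_fix K₂ hb'.1 ht hb''.1 (fun h => hn ((P.commute_iff ha''.1.2.2.symm ha'.1.2.2.symm).1 h).symm) (e ▸ ?_)
    have h := happ a'' ha''.1.2.2.symm haa''.symm
    rw [show p * q * a'' * (p * q) = p * q * (a'' * (p * q)) by group, (hpa''.mul_left hqa'').symm.eq,
      ← mul_assoc, hss, one_mul] at h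
    refine (mul_inv_eq_iff_eq_mul.1 ?_ : s₂ * φ a'' = φ a'' * s₂).symm
    rw [hs₂i, ← h]
  rcases hδx with e | e <;> rcases hx with hx | hx | hx | hx <;> rw [hx] at e
  · rw [hs₂eq, map_mul, hχS, e, map_one]; decide
  · rw [e, hSd] at hδS; exact absurd hδS.symm hne
  · rw [e, hSb] at hδS; exact absurd hδS hne
  · rw [hs₂eq, map_mul, hχS, e, map_mul, h₂ _ K₂.mem, h₂ _ hb.1]; decide
  · exfalso
    refine hodd (L p) (L q) hT ?_
    rw [hs₂eq, e, one_mul, hSdef, mul_assoc (φ a'), (hPb.mul_right hQb).eq]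
  · rw [e, show Sg * (d₂ * φ a') * Sg = Sg * d₂ * (Sg * Sg) * φ a' * Sg by rw [hSS]; group,
      show Sg * d₂ * (Sg * Sg) * φ a' * Sg = (Sg * d₂ * Sg) * (Sg * φ a' * Sg) by group, hSd, hSb''] at hδS
    exact absurd (mul_right_cancel hδS).symm hne
  · rw [e, show Sg * (φ a * φ a') * Sg = Sg * φ a * (Sg * Sg) * φ a' * Sg by rw [hSS]; group,
      show Sg * φ a * (Sg * Sg) * φ a' * Sg = (Sg * φ a * Sg) * (Sg * φ a' * Sg) by group, hSb, hSb''] at hδS
    exact absurd (mul_right_cancel hδS) hne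
  · exfalso
    have hdc : ∀ z, z ∈ perp D₂ (φ a') → d₂ * z * d₂⁻¹ ∈ perp D₂ (φ a') := fun z hz => by
      have := conj_perp K₂.fis d₂ (φ a') hz
      rwa [hb'.2.2.eq, mul_inv_cancel_right] at this
    refine hodd (d₂ * L p * d₂⁻¹) (d₂ * L q * d₂⁻¹) ⟨hdc _ hP, hdc _ hQ, (hdc _ hQ).1,
      fun h => hPne (conj_injective (x := d₂) h).symm, (Commute.conj_iff d₂).2 hPQ⟩ ?_
    rw [hs₂eq, e, inv_eq K₂.trans K₂.mem]
    have hSd' : φ a * Sg = Sg * d₂ := by rw [← hSd, mul_assoc, hSS, mul_one]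
    calc Sg * (d₂ * φ a * φ a') = (Sg * d₂) * φ a * φ a' := by group
      _ = φ a' * (Sg * d₂ * φ a) :=
        (((hSb'.mul_left hb'.2.2).mul_left hbb'.2.2).eq)
      _ = φ a' * (Sg * (φ a * d₂)) := by rw [mul_assoc Sg, hb.2.2.eq]
      _ = φ a' * (d₂ * Sg * d₂) := by
        rw [← mul_assoc Sg, show d₂ * Sg = Sg * φ a from by rw [← hSd, ← mul_assoc, ← mul_assoc, hSS, one_mul]]
      _ = φ a' * (d₂ * L p * d₂) * (d₂ * L q * d₂) := by
        rw [hSdef, show φ a' * (d₂ * L p * d₂) * (d₂ * L q * d₂) = φ a' * (d₂ * L p * (d₂ * d₂) * L q * d₂) by group,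
          hdd]
        group

end Sign

end Cfsg.Lib.Fischer.M24
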