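import Cfsg.Agent.Lib.Fischer.TypeM24.Triangle

/-!
# Coherent extensions to all neighbours
-/

set_option autoImplicit false
set_option linter.unusedSectionVars false

namespace Cfsg.Lib.Fischer.M24

open Cfsg Cfsg.Lib.Fischer Cfsg.Lib.Fischer.Relations Exchange

universe u v

variable {G₁ : Type u} {G₂ : Type v} [Group G₁] [Finite G₁] [Group G₂] [Finite G₂]
  {D₁ : Set G₁} {d₁ : G₁} {D₂ : Set G₂} {d₂ : G₂} {φ : G₁ → G₂} {a : G₁} {t : G₁ × G₂}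

/-- Isomorphisms at all neighbours extending `φ`, coherent on triangles. -/
structure Ext (D₁ : Set G₁) (d₁ : G₁) (D₂ : Set G₂) (φ : G₁ → G₂) (a : G₁) (t : G₁ × G₂)
    (ψ : G₁ → G₁ → G₂) : Prop where
  seed : ∀ g, Commute g a → ψ a g = lift φ t g
  fix : ∀ b ∈ perp D₁ d₁, ∀ g, Commute g d₁ → Commute g b → ψ b g = φ g
  mul : ∀ b ∈ perp D₁ d₁, ∀ g h, Commute g b → Commute h b → ψ b (g * h) = ψ b g * ψ b h
  inj : ∀ b ∈ perp D₁ d₁, ∀ g h, Commute g b → Commute h b → ψ b g = ψ b h → g = h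
  perp : ∀ b ∈ perp D₁ d₁, ∀ x ∈ perp D₁ b, ψ b x ∈ Cfsg.Lib.Fischer.perp D₂ (φ b)
  equiv : ∀ b ∈ Cfsg.Lib.Fischer.perp D₁ d₁, ∀ h g, Commute h d₁ → Commute g b →
    ψ (h * b * h⁻¹) (h * g * h⁻¹) = φ h * ψ b g * (φ h)⁻¹
  tri : ∀ b ∈ Cfsg.Lib.Fischer.perp D₁ d₁, ∀ c ∈ Cfsg.Lib.Fischer.perp D₁ d₁, Commute b c →
    ∀ g, Commute g b → Commute g c → ψ b g = ψ c g

/-- A pair of corresponding elements of the centralizers. -/
theorem str_diag (P : Twin D₁ d₁ D₂ d₂ φ) {h g : G₁} (hh : Commute h d₁) (hg : Commute g d₁) :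
    Str φ (h, φ h) g :=
  P.map_conj hh hg

variable (K₁ : M24Data D₁ d₁) (K₂ : M24Data D₂ d₂) (P : Twin D₁ d₁ D₂ d₂ φ)
  (S : Seed D₁ d₁ d₂ φ a t)
include K₁ K₂ P S

omit K₁ K₂ in
theorem lift_conj {k g : G₁} (h1 : Commute k d₁) (h2 : Commute k a) (hg : Commute g a) :
    lift φ t (k * g * k⁻¹) = φ k * lift φ t g * (φ k)⁻¹ := by
  rw [S.lift_mul P (h2.mul_left hg) h2.inv_left, S.lift_mul P h2 hg, S.fix h1 h2, S.fix h1.inv_left h2.inv_left,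
    P.map_inv h1]

/-- The key relation of a triangle: two routes around it agree. -/
theorem seed_triangle {χ₁ : G₁ →* ℤˣ} {χ₂ : G₂ →* ℤˣ} (h₁ : ∀ x ∈ D₁, χ₁ x = -1) (h₂ : ∀ x ∈ D₂, χ₂ x = -1)
    (hsign : χ₂ t.2 = χ₁ t.1) {b : G₁} (hb : b ∈ perp D₁ d₁) (hab : b ∈ perp D₁ a) {g : G₁}
    (hga : Commute g a) (hgb : Commute g b) :
    ∃ h, Commute h d₁ ∧ h * a * h⁻¹ = b ∧ φ h * lift φ t (h⁻¹ * g * h) * (φ h)⁻¹ = lift φ t g := by
  have hT := K₁.trans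
  have ha := S.mem
  -- the element fixing `b` and exchanging `d` and `a`, up to the centralizer of both
  have hb₀ : t.1 * b * t.1 ∈ perp D₁ d₁ := by
    have := conj_perp K₁.fis t.1 a hab
    rwa [S.inv₁, S.back₁] at this
  have hb₁ : t.1 * b * t.1 ∈ perp D₁ a := by
    have := conj_perp K₁.fis t.1 d₁ hb
    rwa [S.inv₁, S.move₁] at this
  obtain ⟨k, hkd, hka, hkb⟩ := K₁.pair_transitive ha (⟨ha, hb₀, hb₁⟩ : Triad D₁ d₁ a (t.1 * b * t.1))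
    (⟨ha, hb, hab⟩ : Triad D₁ d₁ a b)
  -- the exchange of `a` and `b` fixing `d`
  obtain ⟨y, hy, hay, hby⟩ := exists_perp_far K₁ ha hb
  obtain ⟨p, q, hpD, hqD, hp, hq, -, -, hh, hha, hhb⟩ :=
    swap_pair hT ha.1 hb.1 hy.1 hab.2.2 hab.2.1.symm hay hby
  have hpd : Commute p d₁ := hp ▸ ((hy.2.2.symm.mul_left ha.2.2.symm).mul_left hy.2.2.symm)
  have hqd : Commute q d₁ := hq ▸ ((hy.2.2.symm.mul_left hb.2.2.symm).mul_left hy.2.2.symm)
  obtain ⟨h, hhdef⟩ : ∃ h, h = p * q := ⟨_, rfl⟩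
  rw [← hhdef] at hh hha hhb
  have hhd : Commute h d₁ := hhdef ▸ hpd.mul_left hqd
  have hhi : h⁻¹ = h := inv_eq_of_mul_eq_one_right hh
  obtain ⟨H, hH⟩ : ∃ H : G₁ × G₂, H = (h, φ h) := ⟨_, rfl⟩
  have hφh : φ h * φ h = 1 := by rw [← P.mul _ _ hhd hhd, hh, P.map_one]
  have hHH : H * H = 1 := by rw [hH]; exact Prod.ext hh hφh
  obtain ⟨X, hX⟩ : ∃ X : G₁ × G₂, X = (k * t.1, φ k * t.2) := ⟨_, rfl⟩
  obtain ⟨M, hM⟩ : ∃ M : G₁ × G₂, M = X * H := ⟨_, rfl⟩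
  have mv : ∀ x : G₁, X.1 * x * X.1⁻¹ = k * (t.1 * x * t.1) * k⁻¹ := fun x => by
    rw [hX, mul_inv_rev, S.inv₁]; group
  have Xd : X.1 * d₁ * X.1⁻¹ = a := by rw [mv, S.move₁, hka.eq, mul_inv_cancel_right]
  have Xa : X.1 * a * X.1⁻¹ = d₁ := by rw [mv, S.back₁, hkd.eq, mul_inv_cancel_right]
  have Xb : X.1 * b * X.1⁻¹ = b := by rw [mv, hkb]
  have H1 : ∀ x : G₁, H.1 * x * H.1⁻¹ = h * x * h := fun x => by rw [hH]; show h * x * h⁻¹ = _; rw [hhi]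
  have Hd : H.1 * d₁ * H.1⁻¹ = d₁ := by
    rw [hH]; show h * d₁ * h⁻¹ = d₁; rw [hhd.eq, mul_inv_cancel_right]
  have Ha : H.1 * a * H.1⁻¹ = b := by rw [H1, hha]
  have Hb : H.1 * b * H.1⁻¹ = a := by rw [H1, hhb]
  have conj_comm : ∀ {u x x' g : G₁}, u * x * u⁻¹ = x' → Commute g x → Commute (u * g * u⁻¹) x' :=
    fun {u _ _ _} e hc => e ▸ (Commute.conj_iff u).2 hc
  have sX : ∀ x, Commute x d₁ → Commute x a → Str φ X x := fun x x1 x2 => by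
    have e : X = (k, φ k) * t := by rw [hX]; rfl
    rw [e]
    refine Str.mul (S.str x x1 x2) (str_diag P hkd ?_)
    rw [S.inv₁]
    exact S.to_d x2
  have sH : ∀ x, Commute x d₁ → Str φ H x := fun x hx => hH ▸ str_diag P hhd hx
  have sM : ∀ x, Commute x d₁ → Commute x b → Str φ M x := fun x x1 x3 => hM ▸ Str.mul (sH x x1)
    (sX _ (conj_comm Hd x1) (conj_comm Hb x3))
  have Mcyc : M.1 * d₁ * M.1⁻¹ = a ∧ M.1 * a * M.1⁻¹ = b ∧ M.1 * b * M.1⁻¹ = d₁ := by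
    have e : ∀ x, M.1 * x * M.1⁻¹ = X.1 * (H.1 * x * H.1⁻¹) * X.1⁻¹ := fun x => by
      rw [hM]; simp only [Prod.fst_mul, mul_inv_rev, mul_assoc]
    exact ⟨by rw [e, Hd, Xd], by rw [e, Ha, Xb], by rw [e, Hb, Xa]⟩
  obtain ⟨Md, Ma, Mb⟩ := Mcyc
  have mM : ∀ x, Commute x d₁ → Commute x a → Commute x b →
      Commute (M.1 * x * M.1⁻¹) d₁ ∧ Commute (M.1 * x * M.1⁻¹) a ∧ Commute (M.1 * x * M.1⁻¹) b :=
    fun x u v w => ⟨conj_comm Mb w, conj_comm Md u, conj_comm Ma v⟩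
  obtain ⟨w, hw⟩ : ∃ w, w = M * M * M := ⟨_, rfl⟩
  have sw : ∀ x, Commute x d₁ → Commute x a → Commute x b → Str φ w x := fun x u v z => by
    obtain ⟨u', v', z'⟩ := mM x u v z
    have e : M * M * M = M * (M * M) := mul_assoc _ _ _
    obtain ⟨u'', v'', z''⟩ := mM _ u' v' z'
    rw [hw, e]
    refine Str.mul (Str.mul (sM x u z) (sM _ u' z')) ?_
    rw [show (M * M).1 * x * (M * M).1⁻¹ = M.1 * (M.1 * x * M.1⁻¹) * M.1⁻¹ by
      simp only [Prod.fst_mul, mul_inv_rev, mul_assoc]]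
    exact sM _ u'' z''
  have wfix : ∀ x, (x = d₁ ∨ x = a ∨ x = b) → Commute w.1 x := fun x hx => by
    refine mul_inv_eq_iff_eq_mul.1 ?_
    rw [hw, show (M * M * M).1 * x * (M * M * M).1⁻¹ = M.1 * (M.1 * (M.1 * x * M.1⁻¹) * M.1⁻¹) * M.1⁻¹ by
      simp only [Prod.fst_mul, mul_inv_rev, mul_assoc]]
    rcases hx with rfl | rfl | rfl
    · rw [Md, Ma, Mb]
    · rw [Ma, Mb, Md]
    · rw [Mb, Md, Ma]
  have wd := wfix d₁ (Or.inl rfl)
  have wa := wfix a (Or.inr (Or.inl rfl))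
  have wb := wfix b (Or.inr (Or.inr rfl))
  have hda : Commute d₁ a := ha.2.2
  have hdb : Commute d₁ b := hb.2.2
  obtain ⟨δ, hδ⟩ : ∃ δ, δ = (φ w.1)⁻¹ * w.2 := ⟨_, rfl⟩
  have δc : ∀ x, Commute x d₁ → Commute x a → Commute x b → Commute δ (φ x) := fun x u v z => by
    refine mul_inv_eq_iff_eq_mul.1 ?_
    have e1 := sw x u v z
    rw [Str, P.map_conj wd u] at e1
    rw [hδ, show (φ w.1)⁻¹ * w.2 * φ x * ((φ w.1)⁻¹ * w.2)⁻¹ = (φ w.1)⁻¹ * (w.2 * φ x * w.2⁻¹) * φ w.1 by group,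
      ← e1]
    group
  have hA := P.mem ha
  have hB := P.mem hb
  have hAB : φ b ∈ perp D₂ (φ a) :=
    ⟨hB.1, fun e => hab.2.1 (P.inj _ _ hdb.symm hda.symm e), (P.commute_iff hda.symm hdb.symm).2 hab.2.2⟩
  have δd : Commute δ d₂ := P.base ▸ δc d₁ (Commute.refl _) hda hdb
  have δa : Commute δ (φ a) := δc a hda.symm (Commute.refl _) hab.2.2
  have δb : Commute δ (φ b) := δc b hdb.symm hab.2.2.symm (Commute.refl _)
  obtain ⟨x, hx, hδx⟩ := tri_center K₂ K₂.mem ⟨hA, hB, hAB⟩ δd δa δb fun z u v r => by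
    obtain ⟨z', hz', rfl⟩ := P.surj z u
    exact δc z' hz' ((P.commute_iff hz' hda.symm).1 v) ((P.commute_iff hz' hdb.symm).1 r)
  have Md₂ : M.2 * d₂ * M.2⁻¹ = φ a := by
    rw [← P.base, ← Md, ← sM d₁ (Commute.refl _) hdb]
  have Ma₂ : M.2 * φ a * M.2⁻¹ = φ b := by
    rw [← Ma, ← sM a hda.symm hab.2.2]
  have Mb₂ : M.2 * φ b * M.2⁻¹ = d₂ := by
    rw [← P.base, ← Mb, ← sM b hdb.symm (Commute.refl _)]
  have hMw : M.1 * w.1 * M.1⁻¹ = w.1 := by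
    rw [hw]; simp only [Prod.fst_mul]; group
  have Mδ : M.2 * δ * M.2⁻¹ = δ := by
    have e1 : φ w.1 = M.2 * φ w.1 * M.2⁻¹ := by
      have := sM w.1 wd wb
      rwa [Str, hMw] at this
    rw [hδ, show M.2 * ((φ w.1)⁻¹ * w.2) * M.2⁻¹ = (M.2 * φ w.1 * M.2⁻¹)⁻¹ * (M.2 * w.2 * M.2⁻¹) by group, ← e1]
    congr 1
    rw [hw]; simp only [Prod.snd_mul]; group
  have hMχ : χ₂ M.2 = χ₁ M.1 := by
    rw [hM, hX, hH]
    simp only [Prod.fst_mul, Prod.snd_mul, map_mul, hsign, P.sign K₁ h₁ h₂ hkd, P.sign K₁ h₁ h₂ hhd]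
  have hχδ : χ₂ δ = 1 := by
    rw [hδ, map_mul, map_inv, P.sign K₁ h₁ h₂ wd, hw]
    simp only [Prod.fst_mul, Prod.snd_mul, map_mul, hMχ]
    exact inv_mul_cancel _
  have hconj : ∀ u v : G₂, M.2 * (u * v) * M.2⁻¹ = (M.2 * u * M.2⁻¹) * (M.2 * v * M.2⁻¹) := fun u v => by group
  have hδ1 : δ = 1 := by
    have n1 : φ a ≠ d₂ := hA.2.1
    have n2 : φ b ≠ d₂ := hB.2.1
    have n3 : φ b ≠ φ a := hAB.2.1
    rcases hδx with e | e <;> rcases hx with hx | hx | hx | hx <;> rw [hx] at e <;> rw [e] at Mδ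
    · exact e
    · rw [Md₂] at Mδ; exact absurd Mδ n1
    · rw [Ma₂] at Mδ; exact absurd Mδ n3
    · rw [hconj, Md₂, Ma₂, hA.2.2.eq] at Mδ
      exact absurd (mul_left_cancel Mδ) n2
    · rw [one_mul, Mb₂] at Mδ; exact absurd Mδ.symm n2
    · rw [hconj, Md₂, Mb₂, ← hA.2.2.eq] at Mδ
      exact absurd (mul_left_cancel Mδ).symm n3
    · rw [hconj, Ma₂, Mb₂, hAB.2.2.eq] at Mδ
      exact absurd (mul_left_cancel Mδ).symm n1
    · exfalso
      rw [e, map_mul, map_mul, h₂ _ K₂.mem, h₂ _ hA.1, h₂ _ hB.1] at hχδ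
      exact absurd hχδ (by decide)
  have hw2 : w.2 = φ w.1 := by
    rw [hδ] at hδ1
    exact (inv_mul_eq_one.1 hδ1).symm
  -- the square of the first element
  obtain ⟨u, hu⟩ : ∃ u, u = X * X := ⟨_, rfl⟩
  have ku : Commute (t.1 * k * t.1) d₁ := S.to_d hka
  have ud : Commute u.1 d₁ := by
    rw [hu, hX]; simp only [Prod.fst_mul]
    rw [show k * t.1 * (k * t.1) = k * (t.1 * k * t.1) by group]
    exact hkd.mul_left ku
  have ub : Commute u.1 b := by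
    refine mul_inv_eq_iff_eq_mul.1 ?_
    rw [hu, show (X * X).1 * b * (X * X).1⁻¹ = X.1 * (X.1 * b * X.1⁻¹) * X.1⁻¹ by
      simp only [Prod.fst_mul, mul_inv_rev, mul_assoc], Xb, Xb]
  have hu2 : u.2 = φ u.1 := by
    rw [hu, hX]; simp only [Prod.fst_mul, Prod.snd_mul]
    rw [show k * t.1 * (k * t.1) = k * (t.1 * k * t.1) by group, P.mul _ _ hkd ku, S.apply hkd hka]
    group
  -- the route
  have hXi : ∀ x : G₁ × G₂, H * H * x = x := fun x => by rw [hHH, one_mul]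
  have hHi : H⁻¹ = H := inv_eq_of_mul_eq_one_right hHH
  have route : (H * X)⁻¹ * X = H * X * H * w⁻¹ * u := by
    rw [hw, hM, hu, mul_inv_rev, hHi]
    simp only [mul_inv_rev, hHi, mul_assoc]
    simp only [← mul_assoc]
    simp [hHH, mul_assoc]
  refine ⟨h * k, hhd.mul_left hkd, ?_, ?_⟩
  · rw [show h * k * a * (h * k)⁻¹ = h * (k * a * k⁻¹) * h⁻¹ by group, hka.eq, mul_inv_cancel_right, hhi, hha]
  · obtain ⟨g', hg'⟩ : ∃ g', g' = X.1⁻¹ * g * X.1 := ⟨_, rfl⟩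
    have hg : g = X.1 * g' * X.1⁻¹ := by rw [hg']; group
    have g'd : Commute g' d₁ := by
      rw [← Commute.conj_iff X.1, Xd, ← hg]; exact hga
    have g'b : Commute g' b := by
      rw [← Commute.conj_iff X.1, Xb, ← hg]; exact hgb
    have sN : Str φ ((H * X)⁻¹ * X) g' := by
      have e : (H * X)⁻¹ * X = H * (X * (H * (w⁻¹ * u))) := by rw [route]; simp only [mul_assoc]
      have g1 : Commute (u.1 * g' * u.1⁻¹) d₁ ∧ Commute (u.1 * g' * u.1⁻¹) b :=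
        ⟨(ud.mul_left g'd).mul_left ud.inv_left, (ub.mul_left g'b).mul_left ub.inv_left⟩
      have g2 : Commute (w.1⁻¹ * (u.1 * g' * u.1⁻¹) * w.1) d₁ ∧ Commute (w.1⁻¹ * (u.1 * g' * u.1⁻¹) * w.1) b :=
        ⟨(wd.inv_left.mul_left g1.1).mul_left wd, (wb.inv_left.mul_left g1.2).mul_left wb⟩
      have su : Str φ u g' := by
        rw [show u = (u.1, φ u.1) from Prod.ext rfl hu2]; exact str_diag P ud g'd
      have swi : Str φ w⁻¹ (u.1 * g' * u.1⁻¹) := by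
        rw [show w⁻¹ = (w.1⁻¹, φ w.1⁻¹) from Prod.ext rfl (by rw [Prod.snd_inv, hw2, P.map_inv wd])]
        exact str_diag P wd.inv_left g1.1
      have v2 : (w⁻¹ * u).1 * g' * (w⁻¹ * u).1⁻¹ = w.1⁻¹ * (u.1 * g' * u.1⁻¹) * w.1 := by
        simp only [Prod.fst_mul, Prod.fst_inv, mul_inv_rev, inv_inv, mul_assoc]
      have v3 : ∀ (A B : G₁ × G₂), (A * B).1 * g' * (A * B).1⁻¹ = A.1 * (B.1 * g' * B.1⁻¹) * A.1⁻¹ := fun A B => by
        simp only [Prod.fst_mul, mul_inv_rev, mul_assoc]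
      rw [e]
      refine Str.mul (Str.mul (Str.mul (Str.mul su swi) ?_) ?_) ?_
      · rw [v2]; exact sH _ g2.1
      · rw [v3, v2]; exact sX _ (conj_comm Hd g2.1) (conj_comm Hb g2.2)
      · rw [v3, v3, v2]; exact sH _ (conj_comm Xa (conj_comm Hb g2.2))
    have hhk : t.1 * ((h * k)⁻¹ * g * (h * k)) * t.1 = ((H * X)⁻¹ * X).1 * g' * ((H * X)⁻¹ * X).1⁻¹ := by
      rw [show ((H * X)⁻¹ * X).1 * g' * ((H * X)⁻¹ * X).1⁻¹ = (H * X).1⁻¹ * (X.1 * g' * X.1⁻¹) * (H * X).1 by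
        simp only [Prod.fst_mul, Prod.fst_inv, mul_inv_rev, inv_inv, mul_assoc], ← hg, hH, hX]
      simp only [Prod.fst_mul, mul_inv_rev, S.inv₁]
      group
    have key : φ (h * k) * lift φ t ((h * k)⁻¹ * g * (h * k)) * (φ (h * k))⁻¹ = X.2 * φ g' * X.2⁻¹ := by
      rw [lift, hhk, sN, P.mul _ _ hhd hkd, hH, hX]
      simp only [Prod.snd_mul, Prod.snd_inv, mul_inv_rev, inv_inv, S.inv₂]
      simp only [← mul_assoc]
      simp [mul_assoc, S.sq₂]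
    rw [key]
    have e1 : lift φ t g = φ k * lift φ t (k⁻¹ * g * k) * (φ k)⁻¹ := by
      rw [← lift_conj P S hkd hka ((hka.inv_left.mul_left hga).mul_left hka)]
      congr 1
      group
    rw [e1, lift, hg', hX]
    simp only [mul_inv_rev, S.inv₂, S.inv₁]
    simp only [mul_assoc]

/-- The coherent extensions exist. -/
theorem exists_ext {χ₁ : G₁ →* ℤˣ} {χ₂ : G₂ →* ℤˣ} (h₁ : ∀ x ∈ D₁, χ₁ x = -1) (h₂ : ∀ x ∈ D₂, χ₂ x = -1)
    (hsign : χ₂ t.2 = χ₁ t.1) : ∃ ψ, Ext D₁ d₁ D₂ φ a t ψ := by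
  have hh : ∀ b ∈ perp D₁ d₁, ∃ h, Commute h d₁ ∧ h * a * h⁻¹ = b := fun b hb => by
    obtain ⟨h, hh, e⟩ := perp_transitive K₁.fis K₁.mem S.mem hb
    exact ⟨h, K₁.commute_of_mem hh, e⟩
  choose! m hm using hh
  obtain ⟨ψ, hψ⟩ : ∃ ψ : G₁ → G₁ → G₂, ψ = fun b g => φ (m b) * lift φ t ((m b)⁻¹ * g * m b) * (φ (m b))⁻¹ :=
    ⟨_, rfl⟩
  have back : ∀ {h b g : G₁}, h * a * h⁻¹ = b → Commute g b → Commute (h⁻¹ * g * h) a := fun {h b g} e hg => by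
    rw [← Commute.conj_iff h, e]
    simpa [mul_assoc] using hg
  have indep : ∀ {h b g : G₁}, b ∈ perp D₁ d₁ → Commute h d₁ → h * a * h⁻¹ = b → Commute g b →
      ψ b g = φ h * lift φ t (h⁻¹ * g * h) * (φ h)⁻¹ := fun {h b g} hb hd he hg => by
    obtain ⟨m1, m2⟩ := hm b hb
    have k1 : Commute (h⁻¹ * m b) d₁ := hd.inv_left.mul_left m1
    have k2 : Commute (h⁻¹ * m b) a := by
      refine mul_inv_eq_iff_eq_mul.1 ?_
      rw [show h⁻¹ * m b * a * (h⁻¹ * m b)⁻¹ = h⁻¹ * (m b * a * (m b)⁻¹) * h by group, m2, ← he]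
      group
    have e := lift_conj P S k1 k2 (back m2 hg)
    rw [show h⁻¹ * m b * ((m b)⁻¹ * g * m b) * (h⁻¹ * m b)⁻¹ = h⁻¹ * g * h by group] at e
    rw [hψ, e, P.mul _ _ hd.inv_left m1, P.map_inv hd]
    group
  refine ⟨ψ, ?_⟩
  have hseed : ∀ g, Commute g a → ψ a g = lift φ t g := fun g hg => by
    rw [indep S.mem (Commute.one_left d₁) (by group) hg, P.map_one]
    simp
  have hequiv : ∀ b ∈ perp D₁ d₁, ∀ h g, Commute h d₁ → Commute g b →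
      ψ (h * b * h⁻¹) (h * g * h⁻¹) = φ h * ψ b g * (φ h)⁻¹ := fun b hb h g hd hg => by
    obtain ⟨m1, m2⟩ := hm b hb
    rw [indep (h := h * m b) (K₁.conj_mem hd hb) (hd.mul_left m1)
      (by rw [show h * m b * a * (h * m b)⁻¹ = h * (m b * a * (m b)⁻¹) * h⁻¹ by group, m2])
      ((Commute.conj_iff h).2 hg), indep hb m1 m2 hg, P.mul _ _ hd m1,
      show (h * m b)⁻¹ * (h * g * h⁻¹) * (h * m b) = (m b)⁻¹ * g * m b by group]
    group
  have hbase : ∀ c ∈ perp D₁ d₁, Commute a c → ∀ g, Commute g a → Commute g c → ψ a g = ψ c g := by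
    intro c hc hac g hga hgc
    by_cases e : c = a
    · rw [e]
    · obtain ⟨h, hd, he, heq⟩ := seed_triangle K₁ K₂ P S h₁ h₂ hsign hc ⟨hc.1, e, hac⟩ hga hgc
      rw [hseed g hga, indep hc hd he hgc, heq]
  refine ⟨hseed, ?_, ?_, ?_, ?_, hequiv, ?_⟩
  · intro b hb g hgd hgb
    obtain ⟨m1, m2⟩ := hm b hb
    have e : Commute ((m b)⁻¹ * g * m b) d₁ := (m1.inv_left.mul_left hgd).mul_left m1
    rw [indep hb m1 m2 hgb, S.fix e (back m2 hgb), ← P.map_conj m1 e]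
    congr 1
    group
  · intro b hb g h hg hh
    obtain ⟨m1, m2⟩ := hm b hb
    rw [indep hb m1 m2 (hg.mul_left hh), indep hb m1 m2 hg, indep hb m1 m2 hh,
      show (m b)⁻¹ * (g * h) * m b = ((m b)⁻¹ * g * m b) * ((m b)⁻¹ * h * m b) by group,
      S.lift_mul P (back m2 hg) (back m2 hh)]
    group
  · intro b hb g h hg hh e
    obtain ⟨m1, m2⟩ := hm b hb
    rw [indep hb m1 m2 hg, indep hb m1 m2 hh] at e
    exact mul_left_cancel (mul_right_cancel (S.lift_inj P (back m2 hg) (back m2 hh)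
      (mul_left_cancel (mul_right_cancel e))))
  · intro b hb x hx
    obtain ⟨m1, m2⟩ := hm b hb
    have hx' : (m b)⁻¹ * x * m b ∈ Cfsg.Lib.Fischer.perp D₁ a :=
      (mem_perp_conj K₁.trans _ _ _).1 (m2.symm ▸ hx)
    have h := conj_perp K₂.fis (φ (m b)) (φ a) (S.lift_perp P K₁ K₂ hx')
    rw [← P.map_conj m1 S.mem.2.2.symm, m2] at h
    rwa [indep hb m1 m2 hx.2.2.symm]
  · intro b hb c hc hbc g hgb hgc
    obtain ⟨m1, m2⟩ := hm b hb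
    obtain ⟨c', hc'⟩ : ∃ c', c' = (m b)⁻¹ * c * m b := ⟨_, rfl⟩
    obtain ⟨g', hg'⟩ : ∃ g', g' = (m b)⁻¹ * g * m b := ⟨_, rfl⟩
    have ec : m b * c' * (m b)⁻¹ = c := by rw [hc']; group
    have eg : m b * g' * (m b)⁻¹ = g := by rw [hg']; group
    have c'p : c' ∈ perp D₁ d₁ := by
      have := K₁.conj_mem m1.inv_left hc
      rwa [inv_inv, ← hc'] at this
    have h1 : Commute a c' := by rw [← Commute.conj_iff (m b), m2, ec]; exact hbc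
    have h2 : Commute g' a := hg' ▸ back m2 hgb
    have h3 : Commute g' c' := by rw [← Commute.conj_iff (m b), eg, ec]; exact hgc
    have e1 := hequiv a S.mem (m b) g' m1 h2
    have e2 := hequiv c' c'p (m b) g' m1 h3
    rw [m2, eg] at e1
    rw [ec, eg, ← hbase c' c'p h1 g' h2 h3] at e2
    rw [e1, e2]

end Cfsg.Lib.Fischer.M24
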