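import Cfsg.Agent.Lib.Fischer.TypeM24.Ext

/-!
# Two classes of type M(24) are isomorphic

The extensions at neighbours glue to a map of the classes that intertwines both groups.
-/

set_option autoImplicit false
set_option linter.unusedSectionVars false

namespace Cfsg.Lib.Fischer.M24

open Cfsg Cfsg.Lib.Fischer Cfsg.Lib.Fischer.Relations Exchange

universe u v

variable {G : Type u} [Group G] [Finite G] {D : Set G}

/-- The centralizer of a member is generated by those of two non-commuting members inside it. -/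
theorem closure_two {d : G} (K : M24Data D d) {e s t g : G} (he : e ∈ D) (hs : s ∈ perp D e) (ht : t ∈ perp D e)
    (hst : Commute s t) (hne : t ≠ s) (hg : Commute g e) :
    g ∈ Subgroup.closure {x | Commute x e ∧ (Commute x s ∨ Commute x t)} := by
  have hmem : g ∈ Subgroup.closure (perp D e) := by
    rw [(K.loc he).1]; exact Subgroup.mem_centralizer_singleton_iff.2 hg.eq
  refine (Subgroup.closure_le _).2 (fun x hx => ?_) hmem
  by_cases h1 : Commute x s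
  · exact Subgroup.subset_closure ⟨hx.2.2.symm, Or.inl h1⟩
  by_cases h2 : Commute x t
  · exact Subgroup.subset_closure ⟨hx.2.2.symm, Or.inr h2⟩
  have h := card_two_at K he hs hx fun h => h1 h.symm
  obtain ⟨c, hce, hsc, hxc⟩ :=
    Set.nonempty_of_ncard_ne_zero (s := {u | u ∈ perp D e ∧ (Commute s u ∧ Commute x u)})
      (by rw [← Nat.card_coe_set_eq, h]; norm_num)
  have hcs : c ≠ s := fun e => h1 (e ▸ hxc)
  obtain ⟨k, hk, hkt⟩ := K.pair_transitive_at (a := e) (b := s) he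
    (⟨hs, ht, ⟨ht.1, hne, hst⟩⟩ : Triad D e s t) (⟨hs, hce, ⟨hce.1, hcs, hsc⟩⟩ : Triad D e s c)
  rw [Subgroup.mem_centralizer_iff] at hk
  have hke : Commute k e := (hk e (by simp)).symm
  have hks : Commute k s := (hk s (by simp)).symm
  have h3 : Commute (k⁻¹ * x * k) t := by
    rw [← Commute.conj_iff k, hkt]
    simpa [mul_assoc] using hxc
  have hkm : k ∈ Subgroup.closure {x | Commute x e ∧ (Commute x s ∨ Commute x t)} :=
    Subgroup.subset_closure ⟨hke, Or.inl hks⟩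
  rw [show x = k * (k⁻¹ * x * k) * k⁻¹ by group]
  exact mul_mem (mul_mem hkm (Subgroup.subset_closure
    ⟨(hke.inv_left.mul_left hx.2.2.symm).mul_left hke, Or.inr h3⟩)) (inv_mem hkm)

variable {G₁ : Type u} {G₂ : Type v} [Group G₁] [Finite G₁] [Group G₂] [Finite G₂]
  {D₁ : Set G₁} {d₁ : G₁} {D₂ : Set G₂} {d₂ : G₂} {φ : G₁ → G₂} {a : G₁} {t : G₁ × G₂} {ψ : G₁ → G₁ → G₂}
  (K₁ : M24Data D₁ d₁) (K₂ : M24Data D₂ d₂) (P : Twin D₁ d₁ D₂ d₂ φ) (S : Seed D₁ d₁ d₂ φ a t)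
  (E : Ext D₁ d₁ D₂ φ a t ψ)
include K₁ K₂ P S E

/-- The extensions at the common neighbours of `d` and an outside member agree at it. -/
theorem value_eq {z b c : G₁} (hz : z ∈ D₁) (hdz : ¬ Commute d₁ z) (hb : b ∈ common D₁ d₁ z)
    (hc : c ∈ common D₁ d₁ z) : ψ b z = ψ c z := by
  have hne : ∀ w, Commute d₁ w → z ≠ w := fun w h e => hdz (e ▸ h)
  -- a common neighbour in another part of the trace
  have key : ∀ b ∈ common D₁ d₁ z, ∀ c ∈ common D₁ d₁ z, ψ c z ≠ ψ b z → Commute (φ c) (ψ b z) := by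
    intro b hb c hc hcb
    by_contra hn
    obtain ⟨C, hC⟩ : ∃ C : Set G₁, C = {c | c ∈ common D₁ d₁ z ∧ ψ c z = ψ b z} := ⟨_, rfl⟩
    obtain ⟨uu, huu⟩ : ∃ uu, uu = ψ b z := ⟨_, rfl⟩
    have hu := E.perp b hb.1 z ⟨hz, hne b hb.1.2.2, hb.2.symm⟩
    rw [← huu] at hu hn
    have hdu : ¬ Commute d₂ uu := fun h => hdz (by
      have e := E.fix b hb.1 d₁ (Commute.refl _) hb.1.2.2
      rw [P.base] at e
      refine E.inj b hb.1 _ _ (hb.1.2.2.mul_left hb.2) (hb.2.mul_left hb.1.2.2) ?_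
      rw [E.mul b hb.1 _ _ hb.1.2.2 hb.2, E.mul b hb.1 _ _ hb.2 hb.1.2.2, e, ← huu, h.eq])
    have hφT : ∀ w ∈ C, φ w ∈ common D₂ d₂ uu := fun w hw => by
      rw [hC] at hw
      obtain ⟨hw, hwz⟩ := hw
      refine ⟨P.mem hw.1, ?_⟩
      rw [huu, ← hwz]
      exact (E.perp w hw.1 z ⟨hz, hne w hw.1.2.2, hw.2.symm⟩).2.2.symm
    have hcl : ∀ w ∈ φ '' C, ∀ x ∈ common D₂ d₂ uu, Commute w x → x ∈ φ '' C := by
      rintro _ ⟨w, hw, rfl⟩ x hx hwx
      obtain ⟨x', hx', rfl⟩ := P.exists_pre hx.1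
      rw [hC] at hw ⊢
      obtain ⟨hw, hwz⟩ := hw
      have hwx' : Commute w x' := (P.commute_iff hw.1.2.2.symm hx'.2.2.symm).1 hwx
      have hfx := E.fix w hw.1 x' hx'.2.2.symm hwx'.symm
      have hzx : Commute z x' := by
        refine E.inj w hw.1 _ _ (hw.2.mul_left hwx'.symm) (hwx'.symm.mul_left hw.2) ?_
        rw [E.mul w hw.1 _ _ hw.2 hwx'.symm, E.mul w hw.1 _ _ hwx'.symm hw.2, hfx, hwz, ← huu]
        exact hx.2.eq
      refine ⟨x', ⟨⟨hx', hzx⟩, ?_⟩, rfl⟩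
      rw [← hwz]
      exact (E.tri w hw.1 x' hx' hwx' z hw.2 hzx).symm
    have hsub : φ '' C ⊆ common D₂ d₂ uu := by
      rintro _ ⟨w, hw, rfl⟩; exact hφT w hw
    have h := trace_count K₂ hu.1 hdu hsub hcl (P.mem hc.1) (fun h => hn h.symm)
    have hpos : Nat.card (φ '' C) ≠ 0 := by
      have hbC : φ b ∈ φ '' C := ⟨b, by rw [hC]; exact ⟨hb, rfl⟩, rfl⟩
      exact Nat.card_ne_zero.2 ⟨⟨⟨_, hbC⟩⟩, inferInstance⟩
    obtain ⟨_, ⟨w, hw, rfl⟩, hcw⟩ := Set.nonempty_of_ncard_ne_zero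
      (s := {x | x ∈ φ '' C ∧ Commute (φ c) x}) (by rw [← Nat.card_coe_set_eq]; omega)
    rw [hC] at hw
    obtain ⟨hw, hwz⟩ := hw
    have hcw' : Commute c w := (P.commute_iff hc.1.2.2.symm hw.1.2.2.symm).1 hcw
    exact hcb ((E.tri c hc.1 w hw.1 hcw' z hc.2 hw.2).trans hwz)
  by_contra hne'
  have hbc : ¬ Commute b c := fun h => hne' (E.tri b hb.1 c hc.1 h z hb.2 hc.2)
  have h1 := key b hb c hc fun e => hne' e.symm
  have h2 := key c hc b hb hne'
  have e1 := E.equiv b hb.1 c z hc.1.2.2.symm hb.2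
  have e2 := E.equiv c hc.1 b z hb.1.2.2.symm hc.2
  rw [show c * z * c⁻¹ = z by rw [← hc.2.eq, mul_inv_cancel_right], h1.eq, mul_inv_cancel_right] at e1
  rw [show b * z * b⁻¹ = z by rw [← hb.2.eq, mul_inv_cancel_right], h2.eq, mul_inv_cancel_right] at e2
  have hbr : c * b * c⁻¹ = b * c * b⁻¹ := by
    rw [inv_eq K₁.trans hc.1.1, inv_eq K₁.trans hb.1.1]
    have := braid K₁.trans hc.1.1 hb.1.1 fun h => hbc h.symm
    simpa [cj_def, mul_assoc] using this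
  rw [hbr, e2] at e1
  exact hne' e1.symm

/-- Conjugation by the exchange intertwines the extensions. -/
theorem seed_equiv {b x : G₁} (hb : b ∈ perp D₁ d₁) (hba : b ∈ perp D₁ a) (hx : Commute x (t.1 * b * t.1)) :
    t.2 * ψ b (t.1 * x * t.1) * t.2 = ψ (t.1 * b * t.1) x := by
  obtain ⟨b', hb'def⟩ : ∃ b', b' = t.1 * b * t.1 := ⟨_, rfl⟩
  rw [← hb'def] at hx ⊢
  have hb' : b' ∈ perp D₁ d₁ := by
    have := conj_perp K₁.fis t.1 a hba
    rwa [S.inv₁, S.back₁, ← hb'def] at this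
  have hb'a : b' ∈ perp D₁ a := by
    have := conj_perp K₁.fis t.1 d₁ hb
    rwa [S.inv₁, S.move₁, ← hb'def] at this
  have conjt : ∀ {g}, Commute g b' → Commute (t.1 * g * t.1) b := fun {g} hg => by
    have := (Commute.conj_iff t.1).2 hg
    rwa [S.inv₁, hb'def, conj_self_mul S.sq₁ rfl] at this
  have hgen := closure_two K₁ (e := b') hb'.1 (s := d₁) (t := a) ⟨K₁.mem, hb'.2.1.symm, hb'.2.2.symm⟩
    ⟨S.mem.1, hb'a.2.1.symm, hb'a.2.2.symm⟩ S.mem.2.2 S.mem.2.1 hx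
  have hle : ∀ g ∈ Subgroup.closure {x | Commute x b' ∧ (Commute x d₁ ∨ Commute x a)}, Commute g b' := fun g hg =>
    Subgroup.mem_centralizer_singleton_iff.1
      ((Subgroup.closure_le _).2 (fun y hy => Subgroup.mem_centralizer_singleton_iff.2 hy.1.eq) hg)
  refine ext_closure (f := fun g => t.2 * ψ b (t.1 * g * t.1) * t.2) (f' := ψ b') ?_
    (fun g hg h hh => E.mul b' hb' g h (hle g hg) (hle h hh)) ?_ hgen
  · intro g hg h hh
    show t.2 * ψ b (t.1 * (g * h) * t.1) * t.2 = _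
    rw [show t.1 * (g * h) * t.1 = t.1 * g * (t.1 * t.1) * h * t.1 by rw [S.sq₁]; group,
      show t.1 * g * (t.1 * t.1) * h * t.1 = (t.1 * g * t.1) * (t.1 * h * t.1) by group,
      E.mul b hb _ _ (conjt (hle g hg)) (conjt (hle h hh))]
    rw [show ∀ u v : G₂, t.2 * (u * v) * t.2 = t.2 * u * (t.2 * t.2) * v * t.2 from
      fun u v => by rw [S.sq₂]; group]
    group
  · rintro g ⟨gb, gd | ga⟩
    · show t.2 * ψ b (t.1 * g * t.1) * t.2 = ψ b' g
      rw [E.tri b hb a S.mem hba.2.2.symm _ (conjt gb) (S.to_a gd), E.seed _ (S.to_a gd), E.fix b' hb' g gd gb,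
        lift, show t.1 * (t.1 * g * t.1) * t.1 = t.1 * t.1 * g * (t.1 * t.1) by group, S.sq₁, one_mul, mul_one,
        show t.2 * (t.2 * φ g * t.2) * t.2 = t.2 * t.2 * φ g * (t.2 * t.2) by group, S.sq₂, one_mul, mul_one]
    · show t.2 * ψ b (t.1 * g * t.1) * t.2 = ψ b' g
      rw [E.fix b hb _ (S.to_d ga) (conjt gb), E.tri b' hb' a S.mem hb'a.2.2.symm g gb ga, E.seed g ga, lift]

/-- The glued map of the classes. -/
theorem exists_glue : ∃ f : G₁ → G₂, (∀ z ∈ D₁, ∀ b ∈ perp D₁ d₁, Commute z b → f z = ψ b z) ∧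
    (∀ z ∈ D₁, Commute z d₁ → f z = φ z) := by
  classical
  choose! pick hpick using fun (z : G₁) (hz : z ∈ D₁) => exists_nbr K₁ hz
  refine ⟨fun z => if Commute z d₁ then φ z else ψ (pick z) z, fun z hz b hb hzb => ?_, fun z _ h => if_pos h⟩
  show (if Commute z d₁ then φ z else ψ (pick z) z) = ψ b z
  split_ifs with h
  · exact (E.fix b hb z h hzb).symm
  · exact value_eq K₁ K₂ P S E hz (fun e => h e.symm) ⟨(hpick z hz).1, (hpick z hz).2.symm⟩ ⟨hb, hzb⟩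

/-- The isomorphism. -/
theorem exists_equiv_of_ext : ∃ e : G₁ ≃* G₂, e '' D₁ = D₂ := by
  classical
  obtain ⟨f, hf, hf0⟩ := exists_glue K₁ K₂ P S E
  have hT₁ := K₁.trans
  have hT₂ := K₂.trans
  have hfd : f d₁ = d₂ := (hf0 d₁ K₁.mem (Commute.refl _)).trans P.base
  have hfD : ∀ z ∈ D₁, f z ∈ D₂ := fun z hz => by
    by_cases h : Commute z d₁
    · rw [hf0 z hz h]
      by_cases e : z = d₁
      · rw [e, P.base]; exact K₂.mem
      · exact (P.mem ⟨hz, e, h.symm⟩).1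
    · obtain ⟨b, hb, hbz⟩ := exists_nbr K₁ hz
      rw [hf z hz b hb hbz.symm]
      exact (E.perp b hb z ⟨hz, fun e => h (e ▸ hb.2.2.symm), hbz⟩).1
  let R : G₁ × G₂ → Prop := fun p => ∀ z ∈ D₁, f (p.1 * z * p.1⁻¹) = p.2 * f z * p.2⁻¹
  have hRmul : ∀ p q, R p → R q → R (p * q) := fun p q hp hq z hz => by
    rw [show (p * q).1 * z * (p * q).1⁻¹ = p.1 * (q.1 * z * q.1⁻¹) * p.1⁻¹ by
      simp only [Prod.fst_mul, mul_inv_rev, mul_assoc], hp _ (hT₁.conj q.1 z hz), hq z hz]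
    simp only [Prod.snd_mul, mul_inv_rev, mul_assoc]
  have hRdiag : ∀ h, Commute h d₁ → R (h, φ h) := fun h hh z hz => by
    show f (h * z * h⁻¹) = φ h * f z * (φ h)⁻¹
    obtain ⟨b, hb, hbz⟩ := exists_nbr K₁ hz
    rw [hf z hz b hb hbz.symm, hf _ (hT₁.conj h z hz) _ (K₁.conj_mem hh hb) ((Commute.conj_iff h).2 hbz.symm),
      E.equiv b hb h z hh hbz.symm]
  have hRt : R t := fun z hz => by
    rw [S.inv₁, S.inv₂]
    have hz' : t.1 * z * t.1 ∈ D₁ := by simpa [S.inv₁] using hT₁.conj t.1 z hz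
    by_cases hd : Commute z d₁
    · rw [hf0 z hz hd, hf _ hz' a S.mem (S.to_a hd), E.seed _ (S.to_a hd), lift,
        show t.1 * (t.1 * z * t.1) * t.1 = t.1 * t.1 * z * (t.1 * t.1) by group, S.sq₁, one_mul, mul_one]
    by_cases ha : Commute z a
    · rw [hf z hz a S.mem ha, E.seed z ha, hf0 _ hz' (S.to_d ha), lift,
        show t.2 * (t.2 * φ (t.1 * z * t.1) * t.2) * t.2 = t.2 * t.2 * φ (t.1 * z * t.1) * (t.2 * t.2) by group,
        S.sq₂, one_mul, mul_one]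
    have hdz : ¬ Commute d₁ z := fun h => hd h.symm
    obtain ⟨b, -, hb, -, hab, -, -⟩ := exists_two K₁ hz hdz S.mem fun h => ha h
    have hba : b ∈ perp D₁ a := ⟨hb.1.1, fun e => ha (e ▸ hb.2), hab⟩
    have hb' : t.1 * b * t.1 ∈ perp D₁ d₁ := by
      have := conj_perp K₁.fis t.1 a hba
      rwa [S.inv₁, S.back₁] at this
    have hzb : Commute (t.1 * z * t.1) (t.1 * b * t.1) := by
      have := (Commute.conj_iff t.1).2 hb.2
      rwa [S.inv₁] at this
    have key := seed_equiv K₁ K₂ P S E hb.1 hba hzb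
    rw [show t.1 * (t.1 * z * t.1) * t.1 = t.1 * t.1 * z * (t.1 * t.1) by group, S.sq₁, one_mul, mul_one] at key
    rw [hf z hz b hb.1 hb.2, hf _ hz' _ hb' hzb, key]
  -- the route to every member
  have hroute : ∀ w ∈ D₂, ∃ z ∈ D₁, f z = w ∧ R (z, w) := fun w hw => by
    obtain ⟨b₂, hb₂, hbw⟩ := exists_nbr K₂ hw
    obtain ⟨b, hb, rfl⟩ := P.exists_pre hb₂
    obtain ⟨h, hh, he⟩ := perp_transitive K₁.fis K₁.mem S.mem hb
    have hd := K₁.commute_of_mem hh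
    obtain ⟨w', hw'⟩ : ∃ w', w' = (φ h * t.2)⁻¹ * w * (φ h * t.2) := ⟨_, rfl⟩
    have hw'D : w' ∈ D₂ := by simpa [hw', mul_assoc] using hT₂.conj (φ h * t.2)⁻¹ w hw
    have hmove : φ h * t.2 * d₂ * (φ h * t.2)⁻¹ = φ b := by
      rw [mul_inv_rev, S.inv₂, show φ h * t.2 * d₂ * (t.2 * (φ h)⁻¹) = φ h * (t.2 * d₂ * t.2) * (φ h)⁻¹ by group,
        S.move₂, ← P.map_conj hd S.mem.2.2.symm, he]
    have hw'd : Commute w' d₂ := by
      rw [← Commute.conj_iff (φ h * t.2), hmove, hw']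
      simpa [mul_assoc] using hbw.symm
    obtain ⟨g, hg, hgw⟩ := P.surj w' hw'd
    have hgD : g ∈ D₁ := by
      by_cases e : w' = d₂
      · rw [P.inj g d₁ hg (Commute.refl _) (by rw [hgw, e, P.base])]; exact K₁.mem
      · exact ((P.perp_iff g hg).1 (hgw ▸ ⟨hw'D, e, hw'd.symm⟩)).1
    obtain ⟨p, hp⟩ : ∃ p : G₁ × G₂, p = (h, φ h) * t := ⟨_, rfl⟩
    have hRp : R p := hp ▸ hRmul _ _ (hRdiag h hd) hRt
    have hpinv : R p⁻¹ := by
      have e : p⁻¹ = t * (h⁻¹, φ h⁻¹) := by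
        rw [hp, mul_inv_rev, P.map_inv hd]
        exact Prod.ext (by simp [S.inv₁]) (by simp [S.inv₂])
      rw [e]; exact hRmul _ _ hRt (hRdiag h⁻¹ hd.inv_left)
    refine ⟨p.1 * g * p.1⁻¹, hT₁.conj _ g hgD, ?_, ?_⟩
    · rw [hRp g hgD, hf0 g hgD hg, hgw, hw', hp]
      simp only [Prod.snd_mul, mul_inv_rev]
      group
    · have e : (p.1 * g * p.1⁻¹, w) = p * (g, φ g) * p⁻¹ := by
        refine Prod.ext rfl ?_
        show w = p.2 * φ g * p.2⁻¹
        rw [hgw, hw', hp]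
        simp only [Prod.snd_mul, mul_inv_rev]
        group
      rw [e]
      exact hRmul _ _ (hRmul _ _ hRp (hRdiag g hg)) hpinv
  have hmaps : Set.MapsTo f D₁ D₂ := hfD
  have hcard : D₁.ncard = D₂.ncard := by rw [K₁.main.1, K₂.main.1]
  have himg : f '' D₁ = D₂ := by
    refine Set.Subset.antisymm hmaps.image_subset fun w hw => ?_
    obtain ⟨z, hz, e, -⟩ := hroute w hw
    exact ⟨z, hz, e⟩
  have hfinj : Set.InjOn f D₁ := Set.injOn_of_ncard_image_eq (by rw [himg, hcard]) (Set.toFinite _)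
  have hRz : ∀ z ∈ D₁, R (z, f z) := fun z hz => by
    obtain ⟨z', hz', e, hR⟩ := hroute (f z) (hfD z hz)
    rwa [hfinj hz' hz e] at hR
  -- the subgroup of intertwining pairs
  have hex : ∀ g : G₁, ∃ k : G₂, R (g, k) := fun g => by
    have hg : g ∈ Subgroup.closure D₁ := by rw [hT₁.gen]; exact Subgroup.mem_top g
    induction hg using Subgroup.closure_induction with
    | mem x hx => exact ⟨f x, hRz x hx⟩
    | one => exact ⟨1, fun z _ => by simp⟩
    | mul x y _ _ ihx ihy => exact ⟨_, hRmul _ _ ihx.choose_spec ihy.choose_spec⟩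
    | inv x _ ih =>
      obtain ⟨k, hk⟩ := ih
      refine ⟨k⁻¹, fun z hz => ?_⟩
      have := hk (x⁻¹ * z * x⁻¹⁻¹) (hT₁.conj x⁻¹ z hz)
      show f (x⁻¹ * z * x⁻¹⁻¹) = k⁻¹ * f z * k⁻¹⁻¹
      rw [show x * (x⁻¹ * z * x⁻¹⁻¹) * x⁻¹ = z by group] at this
      rw [this]
      group
  have huniq : ∀ g k k', R (g, k) → R (g, k') → k = k' := fun g k k' h h' => by
    have hc : k⁻¹ * k' ∈ Subgroup.center G₂ := by
      rw [Subgroup.mem_center_iff]
      intro w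
      have hw : w ∈ Subgroup.closure D₂ := by rw [hT₂.gen]; exact Subgroup.mem_top w
      induction hw using Subgroup.closure_induction with
      | mem x hx =>
        obtain ⟨z, hz, rfl⟩ := himg.ge hx
        have e : k * f z * k⁻¹ = k' * f z * k'⁻¹ := (h z hz).symm.trans (h' z hz)
        calc f z * (k⁻¹ * k') = k⁻¹ * (k * f z * k⁻¹) * k' := by group
          _ = k⁻¹ * k' * f z := by rw [e]; group
      | one => simp
      | mul x y _ _ ihx ihy => rw [mul_assoc, ihy, ← mul_assoc, ihx, mul_assoc]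
      | inv x _ ih => exact ((show Commute x (k⁻¹ * k') from ih).inv_left).eq
    rw [K₂.cen, Subgroup.mem_bot] at hc
    exact inv_mul_eq_one.1 hc
  choose F hF using hex
  obtain ⟨Fh, hFh⟩ : ∃ Fh : G₁ →* G₂, ∀ g, Fh g = F g :=
    ⟨MonoidHom.mk' F fun g h => huniq _ _ _ (hF _) (hRmul _ _ (hF g) (hF h)), fun g => rfl⟩
  have hFD : ∀ z ∈ D₁, Fh z = f z := fun z hz => by rw [hFh]; exact huniq _ _ _ (hF z) (hRz z hz)
  have hinj : Function.Injective Fh := by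
    rw [← MonoidHom.ker_eq_bot_iff, eq_bot_iff, ← K₁.cen]
    intro g hg
    rw [MonoidHom.mem_ker, hFh] at hg
    rw [Subgroup.mem_center_iff]
    intro w
    have hw : w ∈ Subgroup.closure D₁ := by rw [hT₁.gen]; exact Subgroup.mem_top w
    induction hw using Subgroup.closure_induction with
    | mem z hz =>
      have e : f (g * z * g⁻¹) = F g * f z * (F g)⁻¹ := hF g z hz
      rw [hg, one_mul, inv_one, mul_one] at e
      exact (mul_inv_eq_iff_eq_mul.1 (hfinj (hT₁.conj g z hz) hz e)).symm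
    | one => simp
    | mul x y _ _ ihx ihy => rw [mul_assoc, ihy, ← mul_assoc, ihx, mul_assoc]
    | inv x _ ih => exact ((show Commute x g from ih).inv_left).eq
  have himgF : Fh '' D₁ = D₂ := (Set.image_congr hFD).trans himg
  have hsurj : Function.Surjective Fh := by
    rw [← MonoidHom.range_eq_top, eq_top_iff, ← hT₂.gen, Subgroup.closure_le, ← himgF]
    exact Set.image_subset_range _ _
  exact ⟨MulEquiv.ofBijective Fh ⟨hinj, hsurj⟩, himgF⟩

omit K₁ K₂ P S E in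
/-- Any two classes of type M(24) are isomorphic. -/
theorem exists_equiv (hT₁ : Trans D₁) (hprim₁ : Cfsg.IsPrimitiveUnderConj D₁) (h₁ : Cfsg.IsOfTypeM24 G₁ D₁)
    (hT₂ : Trans D₂) (hprim₂ : Cfsg.IsPrimitiveUnderConj D₂) (h₂ : Cfsg.IsOfTypeM24 G₂ D₂) :
    ∃ e : G₁ ≃* G₂, e '' D₁ = D₂ := by
  obtain ⟨d₁, K₁⟩ := m24_data hT₁ hprim₁ h₁
  obtain ⟨d₂, K₂⟩ := m24_data hT₂ hprim₂ h₂
  obtain ⟨φ, P⟩ := exists_twin K₁ K₂
  obtain ⟨χ₁, hχ₁, -⟩ := K₁.exists_global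
  obtain ⟨χ₂, hχ₂, -⟩ := K₂.exists_global
  obtain ⟨a, t, S, hsign⟩ := exists_seed K₁ K₂ P hχ₁ hχ₂
  obtain ⟨ψ, E⟩ := exists_ext K₁ K₂ P S hχ₁ hχ₂ hsign
  exact exists_equiv_of_ext K₁ K₂ P S E

end Cfsg.Lib.Fischer.M24
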