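import Cfsg.Agent.Lib.Fischer.Relations.TwentyFour.Orth

/-!
# Neighbours of an outside member in a closed part of a trace, type M(24)

For a member `z` not commuting with `d`, the members commuting with both form a set of 3240. A part of it closed
under commuting has, for every further neighbour `w` of `d`, exactly one ninth of its members commuting with `w`.
-/

set_option autoImplicit false
set_option linter.unusedSectionVars false

namespace Cfsg.Lib.Fischer.M24

open Cfsg Cfsg.Lib.Fischer Cfsg.Lib.Fischer.Relations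

universe u

variable {G : Type u} [Group G] [Finite G] {D : Set G} {d : G} (K : M24Data D d)
include K

theorem far_card : Nat.card (far D d) = 275264 := by
  have h := card_class K.mem K.params
  rw [K.main.1] at h
  omega

theorem common_card {z : G} (hz : z ∈ D) (hdz : ¬ Commute d z) : Nat.card (common D d z) = 3240 := by
  have h := far_mul_common K.fis K.params K.mem hz hdz
  rw [far_card K] at h
  omega

/-- Common neighbours of two non-commuting neighbours, at any member. -/
theorem card_two_at {e s t : G} (he : e ∈ D) (hs : s ∈ perp D e) (ht : t ∈ perp D e) (hst : ¬ Commute s t) :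
    Nat.card {u | u ∈ perp D e ∧ (Commute s u ∧ Commute t u)} = 351 := by
  obtain ⟨g, rfl⟩ := K.trans.trans d K.mem e he
  have hs' := (mem_perp_conj K.trans g d s).1 hs
  have ht' := (mem_perp_conj K.trans g d t).1 ht
  have hst' : ¬ Commute (g⁻¹ * s * g) (g⁻¹ * t * g) := fun h => hst <| by
    simpa [mul_assoc] using (Commute.conj_iff g).2 h
  refine Eq.trans ?_ (K.card_two' hs' ht' hst')
  refine Nat.card_congr (Equiv.subtypeEquiv (MulAut.conj g⁻¹).toEquiv fun u => ?_)
  show u ∈ perp D (g * d * g⁻¹) ∧ (Commute s u ∧ Commute t u) ↔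
    g⁻¹ * u * g⁻¹⁻¹ ∈ perp D d ∧ (Commute _ (g⁻¹ * u * g⁻¹⁻¹) ∧ Commute _ (g⁻¹ * u * g⁻¹⁻¹))
  rw [inv_inv, mem_perp_conj K.trans]
  have h : ∀ a b : G, Commute (g⁻¹ * a * g) (g⁻¹ * b * g) ↔ Commute a b := fun a b => by
    have := Commute.conj_iff (a := a) (b := b) g⁻¹
    rwa [inv_inv] at this
  rw [h, h]

/-- Inside a trace every member commutes with 352. -/
theorem common_deg {z b : G} (hz : z ∈ D) (hdz : ¬ Commute d z) (hb : b ∈ common D d z) :
    Nat.card {u | u ∈ common D d z ∧ Commute b u} = 352 := by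
  obtain ⟨⟨hbD, hbd, hdb⟩, hzb⟩ := hb
  have hzb' : z ≠ b := fun e => hdz (e ▸ hdb)
  have h := card_two_at K hbD ⟨K.mem, Ne.symm hbd, hdb.symm⟩ ⟨hz, hzb', hzb.symm⟩ hdz
  have hset : {u | u ∈ common D d z ∧ Commute b u} =
      insert b {u | u ∈ perp D b ∧ (Commute d u ∧ Commute z u)} := by
    ext u
    constructor
    · rintro ⟨⟨hu, hzu⟩, hbu⟩
      by_cases e : u = b
      · exact Or.inl e
      · exact Or.inr ⟨⟨hu.1, e, hbu⟩, hu.2.2, hzu⟩
    · rintro (rfl | ⟨hu, hdu, hzu⟩)
      · exact ⟨⟨⟨hbD, hbd, hdb⟩, hzb⟩, Commute.refl _⟩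
      · exact ⟨⟨⟨hu.1, fun e => hdz (e ▸ hzu).symm, hdu⟩, hzu⟩, hu.2.2⟩
  rw [hset, Nat.card_coe_set_eq, Set.ncard_insert_of_notMem (fun h => h.1.2.1 rfl), ← Nat.card_coe_set_eq, h]

/-- A part of a trace closed under commuting meets every outside neighbourhood in one ninth. -/
theorem trace_count {z : G} (hz : z ∈ D) (hdz : ¬ Commute d z) {C : Set G} (hC : C ⊆ common D d z)
    (hcl : ∀ b ∈ C, ∀ u ∈ common D d z, Commute b u → u ∈ C) {w : G} (hw : w ∈ perp D d) (hzw : ¬ Commute z w) :
    9 * Nat.card {c | c ∈ C ∧ Commute w c} = Nat.card C := by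
  classical
  rcases C.eq_empty_or_nonempty with rfl | ⟨b₀, hb₀⟩
  · simp
  obtain ⟨V, hV⟩ : ∃ V : Finset G, V = (perp D d).toFinite.toFinset := ⟨_, rfl⟩
  obtain ⟨Cf, hCf⟩ : ∃ Cf : Finset G, Cf = C.toFinite.toFinset := ⟨_, rfl⟩
  obtain ⟨W, hWdef⟩ : ∃ W : Finset G, W = V.filter fun v => ¬ Commute z v := ⟨_, rfl⟩
  obtain ⟨T, hTdef⟩ : ∃ T : Finset G, T = V.filter fun v => Commute z v := ⟨_, rfl⟩
  obtain ⟨n, hn⟩ : ∃ n : G → ℕ, n = fun v => (Cf.filter fun c => Commute v c).card := ⟨_, rfl⟩
  have memV : ∀ v, v ∈ V ↔ v ∈ perp D d := fun v => by simp [hV]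
  have memC : ∀ v, v ∈ Cf ↔ v ∈ C := fun v => by simp [hCf]
  have cardF : ∀ (S : Finset G) (p : G → Prop) [DecidablePred p],
      (S.filter p).card = Nat.card {u | u ∈ S ∧ p u} := fun S p _ => by
    rw [← Nat.card_eq_finsetCard]
    exact Nat.card_congr (Equiv.subtypeEquivRight fun u => by simp)
  have hcard : ∀ (p q : G → Prop) [DecidablePred q], (∀ u, u ∈ perp D d ∧ p u ↔ u ∈ perp D d ∧ q u) →
      (V.filter q).card = Nat.card {u | u ∈ perp D d ∧ p u} := fun p q _ h => by
    rw [cardF]
    exact Nat.card_congr (Equiv.subtypeEquivRight fun u => by simp [memV, h u])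
  -- the internal valency
  have hdeg : ∀ b ∈ Cf, (Cf.filter fun c => Commute b c).card = 352 := fun b hb => by
    rw [← common_deg K hz hdz (hC ((memC b).1 hb)), cardF]
    refine Nat.card_congr (Equiv.subtypeEquivRight fun u => ?_)
    simp only [Set.mem_setOf_eq, memC]
    exact ⟨fun h => ⟨hC h.1, h.2⟩, fun h => ⟨hcl b ((memC b).1 hb) u h.1 h.2, h.2⟩⟩
  have hone : ∀ c ∈ Cf, (V.filter fun v => Commute v c).card = 3511 := fun c hc => by
    rw [hcard (fun u => Commute c u) _ fun u => and_congr_right fun _ => ⟨fun h => h.symm, fun h => h.symm⟩]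
    exact K.params.adj d K.mem c (hC ((memC c).1 hc)).1
  have htwo : ∀ c ∈ Cf, ∀ c' ∈ Cf, (V.filter fun v => Commute v c ∧ Commute v c').card =
      if Commute c c' then (if c' = c then 3511 else 695) else 351 := fun c hc c' hc' => by
    rw [hcard (fun u => Commute c u ∧ Commute c' u) _ fun u => and_congr_right fun _ =>
      ⟨fun h => ⟨h.1.symm, h.2.symm⟩, fun h => ⟨h.1.symm, h.2.symm⟩⟩]
    have h1 := (hC ((memC c).1 hc)).1
    have h2 := (hC ((memC c').1 hc')).1
    split_ifs with e1 e2
    · subst e2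
      simp only [and_self]
      exact K.params.adj d K.mem c' h2
    · exact K.card_two h1 h2 e2 e1
    · exact K.card_two' h1 h2 e1
  obtain ⟨s, hs⟩ : ∃ s, s = Cf.card := ⟨_, rfl⟩
  have hs352 : 352 ≤ s := by
    rw [hs, ← hdeg b₀ ((memC _).2 hb₀)]
    exact Finset.card_filter_le _ _
  -- the sums over the neighbourhood
  have hsum : ∑ v ∈ V, n v = 3511 * s := by
    simp only [hn, Finset.card_filter]
    rw [Finset.sum_comm, hs, mul_comm, ← smul_eq_mul, ← Finset.sum_const]
    exact Finset.sum_congr rfl fun c hc => by rw [← Finset.card_filter, hone c hc]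
  have hrow : ∀ c ∈ Cf, ∑ c' ∈ Cf, (V.filter fun v => Commute v c ∧ Commute v c').card =
      3511 + 351 * 695 + (s - 352) * 351 := fun c hc => by
    rw [Finset.sum_congr rfl (htwo c hc), Finset.sum_ite, Finset.sum_const, smul_eq_mul]
    refine congrArg₂ (· + ·) ?_ ?_
    · have hmem : c ∈ Cf.filter fun c' => Commute c c' := Finset.mem_filter.2 ⟨hc, Commute.refl c⟩
      rw [← Finset.add_sum_erase _ _ hmem, if_pos rfl,
        Finset.sum_congr rfl (fun x hx => if_neg (Finset.ne_of_mem_erase hx)), Finset.sum_const, smul_eq_mul,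
        Finset.card_erase_of_mem hmem, hdeg c hc]
    · have := Finset.card_filter_add_card_filter_not (s := Cf) fun c' => Commute c c'
      rw [hdeg c hc] at this
      refine congrArg (· * 351) ?_
      omega
  have hsq : ∑ v ∈ V, n v ^ 2 = s * (3511 + 351 * 695 + (s - 352) * 351) := by
    simp only [hn, Finset.card_filter, pow_two, Finset.sum_mul_sum]
    rw [Finset.sum_comm, hs, ← smul_eq_mul, ← Finset.sum_const]
    refine Finset.sum_congr rfl fun c hc => ?_
    rw [Finset.sum_comm, ← hs, ← hrow c hc]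
    refine Finset.sum_congr rfl fun c' _ => ?_
    rw [Finset.card_filter]
    refine Finset.sum_congr rfl fun v _ => ?_
    by_cases e : Commute v c <;> by_cases e' : Commute v c' <;> simp [e, e']
  -- the part inside the trace
  have hTC : T.filter (fun v => v ∈ Cf) = Cf := by
    ext v
    simp only [hTdef, Finset.mem_filter, memV, memC]
    exact ⟨fun h => h.2, fun h => ⟨⟨(hC h).1, (hC h).2⟩, h⟩⟩
  have hT : ∀ v ∈ T, n v = if v ∈ Cf then 352 else 0 := fun v hv => by
    simp only [hn]
    split_ifs with h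
    · exact hdeg v h
    · rw [Finset.card_eq_zero, Finset.filter_eq_empty_iff]
      intro c hc e
      simp only [hTdef, Finset.mem_filter, memV] at hv
      exact h ((memC v).2 (hcl c ((memC c).1 hc) v hv e.symm))
  have hT1 : ∑ v ∈ T, n v = 352 * s := by
    rw [Finset.sum_congr rfl hT, ← Finset.sum_filter, hTC, Finset.sum_const, smul_eq_mul, hs, mul_comm]
  have hT2 : ∑ v ∈ T, n v ^ 2 = 352 ^ 2 * s := by
    rw [Finset.sum_congr rfl (g := fun v => if v ∈ Cf then 352 ^ 2 else 0) fun v hv => by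
      rw [hT v hv]; split_ifs <;> norm_num, ← Finset.sum_filter, hTC, Finset.sum_const, smul_eq_mul, hs, mul_comm]
  have hW1 := Finset.sum_filter_add_sum_filter_not V (fun v => Commute z v) n
  have hW2 := Finset.sum_filter_add_sum_filter_not V (fun v => Commute z v) fun v => n v ^ 2
  rw [← hTdef, ← hWdef, hT1, hsum] at hW1
  rw [← hTdef, ← hWdef, hT2, hsq] at hW2
  have hWcard : W.card = 28431 := by
    have h := Finset.card_filter_add_card_filter_not (s := V) fun v => Commute z v
    rw [← hWdef, hcard (fun v => Commute z v) _ fun u => Iff.rfl] at h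
    have hV' : V.card = 31671 := by
      rw [← K.params.val d K.mem, hV, Nat.card_coe_set_eq, Set.ncard_eq_toFinset_card _]
    have hc : Nat.card {u | u ∈ perp D d ∧ Commute z u} = 3240 := common_card K hz hdz
    omega
  have hwW : w ∈ W := by simp [hWdef, memV, hw, hzw]
  have hcs := sq_sum_le_card_mul_sum_sq (s := W.erase w) (f := n)
  rw [Finset.card_erase_of_mem hwW, hWcard] at hcs
  have e1 := Finset.add_sum_erase W n hwW
  have e2 := Finset.add_sum_erase W (fun v => n v ^ 2) hwW
  have hgoal : Nat.card {c | c ∈ C ∧ Commute w c} = n w := by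
    simp only [hn]
    rw [cardF]
    exact Nat.card_congr (Equiv.subtypeEquivRight fun u => by simp [memC])
  have hgoal' : Nat.card C = s := by
    rw [hs, hCf, Nat.card_coe_set_eq, Set.ncard_eq_toFinset_card _]
  rw [hgoal, hgoal']
  generalize n w = m at *
  generalize ∑ v ∈ W.erase w, n v = A at *
  generalize ∑ v ∈ W.erase w, n v ^ 2 = B at *
  generalize ∑ v ∈ W, n v = A' at *
  generalize ∑ v ∈ W, n v ^ 2 = B' at *
  zify [hs352] at *
  have hA : (A : ℤ) = 3159 * s - m := by linarith
  have hB : (B : ℤ) = 351 * s ^ 2 - (m : ℤ) ^ 2 := by nlinarith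
  rw [hA, hB] at hcs
  norm_num at hcs
  have h0 : (9 * (m : ℤ) - s) ^ 2 ≤ 0 := by nlinarith
  have h1 : 9 * (m : ℤ) - s = 0 := pow_eq_zero_iff (two_ne_zero) |>.1 (le_antisymm h0 (sq_nonneg _))
  linarith

/-- For a neighbour `a` and a member commuting with neither: two non-commuting members commute with all three. -/
theorem exists_two {a z : G} (hz : z ∈ D) (hdz : ¬ Commute d z) (ha : a ∈ perp D d) (haz : ¬ Commute z a) :
    ∃ b c, b ∈ common D d z ∧ c ∈ common D d z ∧ Commute a b ∧ Commute a c ∧ ¬ Commute b c := by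
  have h := trace_count K hz hdz (C := common D d z) Set.Subset.rfl (fun _ _ u hu _ => hu) ha haz
  rw [common_card K hz hdz] at h
  by_contra hcon
  push Not at hcon
  obtain ⟨E, -, -, hn, hsub⟩ := K.clique_le_base (W := {c | c ∈ common D d z ∧ Commute a c})
    (fun c hc => hc.1.1.1) fun b hb c hc => hcon b c hb.1 hc.1 hb.2 hc.2
  have := Set.ncard_le_ncard hsub
  rw [hn, ← Nat.card_coe_set_eq] at this
  omega

theorem exists_nbr {z : G} (hz : z ∈ D) : ∃ b ∈ perp D d, Commute b z := by
  by_cases hdz : Commute d z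
  · by_cases e : z = d
    · have h : (perp D d).ncard = 31671 := by rw [← Nat.card_coe_set_eq]; exact K.params.val d K.mem
      obtain ⟨b, hb⟩ := Set.nonempty_of_ncard_ne_zero (s := perp D d) (by omega)
      exact ⟨b, hb, e ▸ hb.2.2.symm⟩
    · exact ⟨z, ⟨hz, e, hdz⟩, Commute.refl z⟩
  · have h : (common D d z).ncard = 3240 := by rw [← Nat.card_coe_set_eq]; exact common_card K hz hdz
    obtain ⟨b, hb⟩ := Set.nonempty_of_ncard_ne_zero (s := common D d z) (by omega)
    exact ⟨b, hb.1, hb.2.symm⟩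

/-- A member commuting with neither `d` nor `a`. -/
theorem exists_far_both {a : G} (ha : a ∈ perp D d) : ∃ y ∈ D, ¬ Commute d y ∧ ¬ Commute a y := by
  by_contra hcon
  push Not at hcon
  have hsub : far D d ⊆ insert a (perp D a) := fun y hy => by
    by_cases e : y = a
    · exact Or.inl e
    · exact Or.inr ⟨hy.1, e, hcon y hy.1 fun h => hy.2 h.symm⟩
  have h1 := (Set.ncard_le_ncard hsub).trans (Set.ncard_insert_le _ _)
  rw [← Nat.card_coe_set_eq, ← Nat.card_coe_set_eq, far_card K, K.params.val a ha.1] at h1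
  omega

/-- A neighbour commuting with neither of two given ones. -/
theorem exists_perp_far {a b : G} (ha : a ∈ perp D d) (hb : b ∈ perp D d) :
    ∃ y ∈ perp D d, ¬ Commute a y ∧ ¬ Commute b y := by
  by_contra hcon
  push Not at hcon
  have hsub : perp D d ⊆ {u | u ∈ perp D d ∧ Commute a u} ∪ {u | u ∈ perp D d ∧ Commute b u} := fun y hy => by
    by_cases e : Commute a y
    · exact Or.inl ⟨hy, e⟩
    · exact Or.inr ⟨hy, hcon y hy e⟩
  have h1 := (Set.ncard_le_ncard hsub).trans (Set.ncard_union_le _ _)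
  rw [← Nat.card_coe_set_eq, ← Nat.card_coe_set_eq, ← Nat.card_coe_set_eq, K.params.val d K.mem,
    K.params.adj d K.mem a ha, K.params.adj d K.mem b hb] at h1
  omega

end Cfsg.Lib.Fischer.M24
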