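import Cfsg.Agent.Lib.Fischer.Relations.TwentyFour.PairCentralizer
import Cfsg.Agent.Lib.Fischer.TypeM23.Main

/-!
# Matched neighbourhood groups of two classes of type M(24)

The centralizers of a member in two groups of type M(24) are isomorphic class to class, member to member.
-/

set_option autoImplicit false
set_option linter.unusedSectionVars false

namespace Cfsg.Lib.Fischer.M24

open Cfsg Cfsg.Lib.Fischer Cfsg.Lib.Fischer.Relations

/-- An isomorphism of the centralizers of two members, matching the neighbours. -/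
structure Twin {G₁ G₂ : Type*} [Group G₁] [Group G₂] (D₁ : Set G₁) (d₁ : G₁) (D₂ : Set G₂) (d₂ : G₂)
    (φ : G₁ → G₂) : Prop where
  base : φ d₁ = d₂
  mul : ∀ g h, Commute g d₁ → Commute h d₁ → φ (g * h) = φ g * φ h
  maps : ∀ g, Commute g d₁ → Commute (φ g) d₂
  inj : ∀ g h, Commute g d₁ → Commute h d₁ → φ g = φ h → g = h
  surj : ∀ k, Commute k d₂ → ∃ g, Commute g d₁ ∧ φ g = k
  perp_iff : ∀ g, Commute g d₁ → (φ g ∈ perp D₂ d₂ ↔ g ∈ perp D₁ d₁)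

namespace Twin

variable {G₁ G₂ : Type*} [Group G₁] [Group G₂] {D₁ : Set G₁} {d₁ : G₁} {D₂ : Set G₂} {d₂ : G₂} {φ : G₁ → G₂}
  (P : Twin D₁ d₁ D₂ d₂ φ)
include P

theorem map_one : φ 1 = 1 := by
  have h := P.mul 1 1 (Commute.one_left _) (Commute.one_left _)
  rw [one_mul] at h
  exact left_eq_mul.1 h

theorem map_inv {g : G₁} (hg : Commute g d₁) : φ g⁻¹ = (φ g)⁻¹ := by
  refine eq_inv_of_mul_eq_one_left ?_
  rw [← P.mul _ _ hg.inv_left hg, inv_mul_cancel, P.map_one]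

theorem map_conj {h g : G₁} (hh : Commute h d₁) (hg : Commute g d₁) : φ (h * g * h⁻¹) = φ h * φ g * (φ h)⁻¹ := by
  rw [P.mul _ _ (hh.mul_left hg) hh.inv_left, P.mul _ _ hh hg, P.map_inv hh]

theorem commute_iff {g h : G₁} (hg : Commute g d₁) (hh : Commute h d₁) : Commute (φ g) (φ h) ↔ Commute g h := by
  refine ⟨fun e => P.inj _ _ (hg.mul_left hh) (hh.mul_left hg) ?_, fun e => ?_⟩
  · rw [P.mul _ _ hg hh, P.mul _ _ hh hg, e.eq]
  · show φ g * φ h = φ h * φ g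
    rw [← P.mul _ _ hg hh, ← P.mul _ _ hh hg, e.eq]

theorem mem {x : G₁} (hx : x ∈ perp D₁ d₁) : φ x ∈ perp D₂ d₂ := (P.perp_iff x hx.2.2.symm).2 hx

theorem exists_pre {w : G₂} (hw : w ∈ perp D₂ d₂) : ∃ x ∈ perp D₁ d₁, φ x = w := by
  obtain ⟨g, hg, rfl⟩ := P.surj w hw.2.2.symm
  exact ⟨g, (P.perp_iff g hg).1 hw, rfl⟩

/-- Signs are preserved. -/
theorem sign [Finite G₁] [Finite G₂] (K₁ : M24Data D₁ d₁) {χ₁ : G₁ →* ℤˣ} {χ₂ : G₂ →* ℤˣ}
    (h₁ : ∀ x ∈ D₁, χ₁ x = -1) (h₂ : ∀ x ∈ D₂, χ₂ x = -1) {g : G₁} (hg : Commute g d₁) : χ₂ (φ g) = χ₁ g := by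
  have hmem : g ∈ Subgroup.closure (perp D₁ d₁) :=
    K₁.centralizer_eq ▸ Subgroup.mem_centralizer_singleton_iff.2 hg.eq
  induction hmem using Subgroup.closure_induction with
  | mem x hx => rw [h₁ x hx.1, h₂ _ (P.mem hx).1]
  | one => rw [P.map_one, _root_.map_one, _root_.map_one]
  | mul x y hx hy ihx ihy =>
    rw [P.mul _ _ (K₁.commute_of_mem hx) (K₁.commute_of_mem hy), _root_.map_mul, _root_.map_mul,
      ihx (K₁.commute_of_mem hx), ihy (K₁.commute_of_mem hy)]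
  | inv x hx ih => rw [P.map_inv (K₁.commute_of_mem hx), _root_.map_inv, _root_.map_inv, ih (K₁.commute_of_mem hx)]

end Twin

universe u v

variable {G₁ : Type u} {G₂ : Type v} [Group G₁] [Finite G₁] [Group G₂] [Finite G₂]
  {D₁ : Set G₁} {d₁ : G₁} {D₂ : Set G₂} {d₂ : G₂}

/-- The two neighbourhood groups are isomorphic, member to member. -/
theorem exists_twin (K₁ : M24Data D₁ d₁) (K₂ : M24Data D₂ d₂) : ∃ φ, Twin D₁ d₁ D₂ d₂ φ := by
  classical
  obtain ⟨χ₁, h₁, -⟩ := K₁.exists_global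
  obtain ⟨χ₂, h₂, -⟩ := K₂.exists_global
  obtain ⟨e₁, he₁⟩ := M23.exists_equiv K₁.imgTrans K₁.imgPrim K₁.img
  obtain ⟨e₂, he₂⟩ := M23.exists_equiv K₂.imgTrans K₂.imgPrim K₂.img
  obtain ⟨β, hβ⟩ : ∃ β, β = e₁.symm.trans e₂ := ⟨_, rfl⟩
  have hβi : β '' image (perp D₁ d₁) = image (perp D₂ d₂) := by
    rw [← he₁, ← he₂, hβ, Set.image_image]
    simp
  let R : G₁ → G₂ → Prop := fun g k =>
    ∃ (hg : g ∈ Subgroup.closure (perp D₁ d₁)) (hk : k ∈ Subgroup.closure (perp D₂ d₂)),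
      β (QuotientGroup.mk ⟨g, hg⟩) = QuotientGroup.mk ⟨k, hk⟩ ∧ χ₂ k = χ₁ g
  have hc₁ : ∀ {g}, Commute g d₁ → g ∈ Subgroup.closure (perp D₁ d₁) := fun h =>
    K₁.centralizer_eq ▸ Subgroup.mem_centralizer_singleton_iff.2 h.eq
  have hc₂ : ∀ {g}, Commute g d₂ → g ∈ Subgroup.closure (perp D₂ d₂) := fun h =>
    K₂.centralizer_eq ▸ Subgroup.mem_centralizer_singleton_iff.2 h.eq
  have hz₁ : ∀ z : G₁, z ∈ Subgroup.zpowers d₁ → z = 1 ∨ z = d₁ := fun z hz => by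
    rw [Subgroup.zpowers_eq_closure] at hz
    rcases closure_pair K₁.trans K₁.mem K₁.mem (Commute.refl _) (Subgroup.closure_mono (by simp) hz) with
      h | h | h | h
    exacts [Or.inl h, Or.inr h, Or.inr h, Or.inl (h.trans (mul_self K₁.trans K₁.mem))]
  have hz₂ : ∀ z : G₂, z ∈ Subgroup.zpowers d₂ → z = 1 ∨ z = d₂ := fun z hz => by
    rw [Subgroup.zpowers_eq_closure] at hz
    rcases closure_pair K₂.trans K₂.mem K₂.mem (Commute.refl _) (Subgroup.closure_mono (by simp) hz) with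
      h | h | h | h
    exacts [Or.inl h, Or.inr h, Or.inr h, Or.inl (h.trans (mul_self K₂.trans K₂.mem))]
  have hex : ∀ g, g ∈ Subgroup.closure (perp D₁ d₁) → ∃ k, R g k := fun g hg => by
    obtain ⟨⟨k, hk⟩, hke⟩ := QuotientGroup.mk_surjective (β (QuotientGroup.mk ⟨g, hg⟩))
    by_cases e : χ₂ k = χ₁ g
    · exact ⟨k, hg, hk, hke.symm, e⟩
    · refine ⟨k * d₂, hg, mul_mem hk K₂.self_mem, hke.symm.trans (QuotientGroup.eq.2 ?_), ?_⟩
      · rw [show (⟨k, hk⟩ : ↥(Subgroup.closure (perp D₂ d₂)))⁻¹ * ⟨k * d₂, mul_mem hk K₂.self_mem⟩ =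
          ⟨d₂, K₂.self_mem⟩ from Subtype.ext (inv_mul_cancel_left k d₂), K₂.center_eq, Subgroup.mem_subgroupOf]
        exact Subgroup.mem_zpowers d₂
      · rw [map_mul, h₂ d₂ K₂.mem]
        rcases Int.units_eq_one_or (χ₂ k) with a | a <;> rcases Int.units_eq_one_or (χ₁ g) with b | b <;>
          rw [a, b] at e ⊢ <;> first | (exact absurd rfl e) | decide
  have huniq : ∀ g k k', R g k → R g k' → k = k' := by
    rintro g k k' ⟨_, hk, e, s⟩ ⟨_, hk', e', s'⟩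
    have h := QuotientGroup.eq.1 (e.symm.trans e')
    rw [K₂.center_eq, Subgroup.mem_subgroupOf] at h
    rcases hz₂ _ h with h' | h'
    · exact inv_mul_eq_one.1 h'
    · exfalso
      have := congrArg χ₂ (inv_mul_eq_iff_eq_mul.1 h')
      rw [map_mul, s, s', h₂ d₂ K₂.mem] at this
      rcases Int.units_eq_one_or (χ₁ g) with b | b <;> rw [b] at this <;> exact absurd this (by decide)
  have hinj : ∀ g g' k, R g k → R g' k → g = g' := by
    rintro g g' k ⟨hg, _, e, s⟩ ⟨hg', _, e', s'⟩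
    have h := QuotientGroup.eq.1 (β.injective (e.trans e'.symm))
    rw [K₁.center_eq, Subgroup.mem_subgroupOf] at h
    rcases hz₁ _ h with h' | h'
    · exact inv_mul_eq_one.1 h'
    · exfalso
      have := congrArg χ₁ (inv_mul_eq_iff_eq_mul.1 h')
      rw [map_mul, ← s, ← s', h₁ d₁ K₁.mem] at this
      rcases Int.units_eq_one_or (χ₂ k) with b | b <;> rw [b] at this <;> exact absurd this (by decide)
  choose φ' hφ' using hex
  obtain ⟨φ, hφ⟩ : ∃ φ : G₁ → G₂, φ = fun g => if hg : g ∈ Subgroup.closure (perp D₁ d₁) then φ' g hg else 1 :=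
    ⟨_, rfl⟩
  have hR : ∀ g, Commute g d₁ → R g (φ g) := fun g hg => by
    rw [hφ]
    simp only [dif_pos (hc₁ hg)]
    exact hφ' g (hc₁ hg)
  have hperp : ∀ x (hx : x ∈ perp D₁ d₁), ∃ (y : G₂) (hy : y ∈ perp D₂ d₂), β (bar hx) = bar hy ∧ φ x = y := by
    intro x hx
    obtain ⟨y, hy, e⟩ := exists_bar (hβi.subset ⟨_, bar_mem hx, rfl⟩)
    refine ⟨y, hy, e.symm, huniq x _ _ (hR x hx.2.2.symm) ⟨_, _, e.symm, ?_⟩⟩
    rw [h₁ x hx.1, h₂ y hy.1]
  refine ⟨φ, ⟨?_, ?_, ?_, ?_, ?_, ?_⟩⟩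
  · refine huniq d₁ _ _ (hR d₁ (Commute.refl _)) ⟨K₁.self_mem, K₂.self_mem, ?_, ?_⟩
    · rw [(QuotientGroup.eq_one_iff _).2, map_one, (QuotientGroup.eq_one_iff _).2]
      · rw [K₂.center_eq, Subgroup.mem_subgroupOf]; exact Subgroup.mem_zpowers d₂
      · rw [K₁.center_eq, Subgroup.mem_subgroupOf]; exact Subgroup.mem_zpowers d₁
    · rw [h₁ d₁ K₁.mem, h₂ d₂ K₂.mem]
  · intro g h hg hh
    obtain ⟨a, b, e, s⟩ := hR g hg
    obtain ⟨a', b', e', s'⟩ := hR h hh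
    refine huniq _ _ _ (hR _ (hg.mul_left hh)) ⟨mul_mem a a', mul_mem b b', ?_, ?_⟩
    · rw [show (⟨g * h, mul_mem a a'⟩ : ↥(Subgroup.closure (perp D₁ d₁))) = ⟨g, a⟩ * ⟨h, a'⟩ from rfl,
        QuotientGroup.mk_mul, map_mul, e, e', ← QuotientGroup.mk_mul]
      rfl
    · rw [map_mul, map_mul, s, s']
  · intro g hg
    obtain ⟨-, b, -, -⟩ := hR g hg
    exact K₂.commute_of_mem b
  · intro g h hg hh e
    exact hinj g h _ (hR g hg) (e ▸ hR h hh)
  · intro k hk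
    obtain ⟨q, hq⟩ := β.surjective (QuotientGroup.mk ⟨k, hc₂ hk⟩)
    obtain ⟨⟨g, hg⟩, rfl⟩ := QuotientGroup.mk_surjective q
    by_cases e : χ₂ k = χ₁ g
    · exact ⟨g, K₁.commute_of_mem hg, huniq g _ _ (hR g (K₁.commute_of_mem hg)) ⟨_, _, hq, e⟩⟩
    · have hgd := mul_mem hg K₁.self_mem
      refine ⟨g * d₁, K₁.commute_of_mem hgd, huniq _ _ _ (hR _ (K₁.commute_of_mem hgd)) ⟨hgd, hc₂ hk, ?_, ?_⟩⟩
      · rw [show (⟨g * d₁, hgd⟩ : ↥(Subgroup.closure (perp D₁ d₁))) = ⟨g, hg⟩ * ⟨d₁, K₁.self_mem⟩ from rfl,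
          QuotientGroup.mk_mul, (QuotientGroup.eq_one_iff (⟨d₁, K₁.self_mem⟩ : ↥(Subgroup.closure (perp D₁ d₁)))).2,
          mul_one, hq]
        rw [K₁.center_eq, Subgroup.mem_subgroupOf]; exact Subgroup.mem_zpowers d₁
      · rw [map_mul, h₁ d₁ K₁.mem]
        rcases Int.units_eq_one_or (χ₂ k) with a | a <;> rcases Int.units_eq_one_or (χ₁ g) with b | b <;>
          rw [a, b] at e ⊢ <;> first | (exact absurd rfl e) | decide
  · intro g hg
    constructor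
    · intro hy
      obtain ⟨a, b, e, s⟩ := hR g hg
      obtain ⟨q, hq, hqe⟩ := hβi.ge (bar_mem hy)
      obtain ⟨x, hx, rfl⟩ := exists_bar hq
      obtain rfl : g = x := hinj g x (φ g) ⟨a, b, e, s⟩
        ⟨Subgroup.subset_closure hx, b, hqe, by rw [h₁ x hx.1, h₂ _ hy.1]⟩
      exact hx
    · intro hx
      obtain ⟨y, hy, -, e⟩ := hperp g hx
      exact e ▸ hy

end Cfsg.Lib.Fischer.M24
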