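import Cfsg.Agent.Lib.Fischer.Relations.TwentyFour.TriDerived
import Cfsg.Agent.Lib.Fischer.TypeM24.Count
import Cfsg.Agent.Lib.Fischer.TypeM24.Twin

/-!
# Exchanging a member and a neighbour on both sides

An exchange of a member and a neighbour in one group of type M(24) is matched by one in the other: both induce
outer automorphisms of Fi22, and that group has only two classes of automorphisms.
-/

set_option autoImplicit false
set_option linter.unusedSectionVars false

namespace Cfsg.Lib.Fischer.M24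

open Cfsg Cfsg.Lib.Fischer Cfsg.Lib.Fischer.Relations Cfsg.Spor

universe u v

/-- Two multiplicative maps agreeing on generators agree on what they generate. -/
theorem ext_closure {G H : Type*} [Group G] [Group H] {S : Set G} {f f' : G → H}
    (hf : ∀ g ∈ Subgroup.closure S, ∀ h ∈ Subgroup.closure S, f (g * h) = f g * f h)
    (hf' : ∀ g ∈ Subgroup.closure S, ∀ h ∈ Subgroup.closure S, f' (g * h) = f' g * f' h)
    (h : ∀ x ∈ S, f x = f' x) {g : G} (hg : g ∈ Subgroup.closure S) : f g = f' g := by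
  have h1 : f 1 = f' 1 := by
    have a := hf 1 (one_mem _) 1 (one_mem _)
    have b := hf' 1 (one_mem _) 1 (one_mem _)
    rw [one_mul] at a b
    rw [left_eq_mul.1 a, left_eq_mul.1 b]
  induction hg using Subgroup.closure_induction with
  | mem x hx => exact h x hx
  | one => exact h1
  | mul x y hx hy ihx ihy => rw [hf x hx y hy, hf' x hx y hy, ihx, ihy]
  | inv x hx ih =>
    have a := hf x⁻¹ (inv_mem hx) x hx
    have b := hf' x⁻¹ (inv_mem hx) x hx
    rw [inv_mul_cancel] at a b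
    rw [← ih, ← h1, a] at b
    exact mul_right_cancel b

variable {G : Type u} [Group G] [Finite G] {D : Set G}

theorem conj_self_mul {s : G} (hs : s * s = 1) {a b : G} (h : s * a * s = b) : s * b * s = a := by
  rw [← h, show s * (s * a * s) * s = s * s * a * (s * s) by group, hs]
  group

/-- Two commuting members exchanging two given ones. -/
theorem swap_pair (hT : Trans D) {a b y : G} (ha : a ∈ D) (hb : b ∈ D) (hy : y ∈ D) (hab : Commute a b) (hne : a ≠ b)
    (hay : ¬ Commute a y) (hby : ¬ Commute b y) : ∃ p q, p ∈ D ∧ q ∈ D ∧ p = y * a * y ∧ q = y * b * y ∧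
      p ≠ q ∧ Commute p q ∧ (p * q) * (p * q) = 1 ∧ (p * q) * a * (p * q) = b ∧ (p * q) * b * (p * q) = a := by
  have hyy := mul_self hT hy
  have hconj : ∀ x, y * x * y = y * x * y⁻¹ := fun x => by rw [inv_eq hT hy]
  obtain ⟨p, hp⟩ : ∃ p, p = y * a * y := ⟨_, rfl⟩
  obtain ⟨q, hq⟩ : ∃ q, q = y * b * y := ⟨_, rfl⟩
  have hpD : p ∈ D := by rw [hp, hconj]; exact hT.conj y a ha
  have hqD : q ∈ D := by rw [hq, hconj]; exact hT.conj y b hb
  have hpq : Commute p q := by rw [hp, hq, hconj, hconj]; exact (Commute.conj_iff y).2 hab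
  have br : ∀ x ∈ D, ¬ Commute x y → y * x * y = x * y * x := fun x hx h => by
    have := braid hT hy hx fun e => h e.symm
    simpa [cj_def, mul_assoc] using this
  have e1 : p * a * p = y := by
    rw [hp, br a ha hay, show a * y * a * a * (a * y * a) = a * y * (a * a) * a * y * a by group, mul_self hT ha,
      show a * y * 1 * a * y * a = a * (y * a * y) * a by group, br a ha hay,
      show a * (a * y * a) * a = a * a * y * (a * a) by group, mul_self hT ha]
    group
  have e2 : q * y * q = b := by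
    rw [hq, show y * b * y * y * (y * b * y) = y * b * (y * y) * y * b * y by group, hyy,
      show y * b * 1 * y * b * y = y * (b * y * b) * y by group, ← br b hb hby,
      show y * (y * b * y) * y = y * y * b * (y * y) by group, hyy]
    group
  have hss : p * q * (p * q) = 1 := by
    rw [show p * q * (p * q) = p * (q * p) * q by group, hpq.symm.eq,
      show p * (p * q) * q = p * p * (q * q) by group, mul_self hT hpD, mul_self hT hqD, one_mul]
  have e3 : p * q * a * (p * q) = b := by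
    rw [show p * q * a * (p * q) = (p * q) * a * p * q by group, hpq.eq,
      show q * p * a * p * q = q * (p * a * p) * q by group, e1, e2]
  exact ⟨p, q, hpD, hqD, hp, hq, fun e => hne (by simpa [hp, hq] using e), hpq, hss, e3, conj_self_mul hss e3⟩

namespace Exchange

variable {d : G} (K : M24Data D d)
include K

/-- An element of the centralizer of a pair commuting with all of it is in the pair's group. -/
theorem pair_center {a b k : G} (ha : a ∈ D) (hb : b ∈ perp D a) (h1 : Commute k a) (h2 : Commute k b)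
    (h : ∀ g, Commute g a → Commute g b → Commute k g) : k = 1 ∨ k = a ∨ k = b ∨ k = a * b := by
  obtain ⟨π, hs, hk⟩ := K.exists_pair_proj ha hb
  have hmem : ∀ g, Commute g a → Commute g b → g ∈ Subgroup.centralizer ({a, b} : Set G) := fun g u v => by
    rw [Subgroup.mem_centralizer_iff]
    rintro x (rfl | rfl)
    exacts [u.eq.symm, v.eq.symm]
  refine closure_pair K.trans ha hb.1 hb.2.2 (hk ⟨k, hmem k h1 h2⟩ ?_)
  have hc : π ⟨k, hmem k h1 h2⟩ ∈ Subgroup.center Fi22 := by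
    rw [Subgroup.mem_center_iff]
    intro x
    obtain ⟨⟨g, hg⟩, rfl⟩ := hs x
    rw [← map_mul, ← map_mul]
    rw [Subgroup.mem_centralizer_iff] at hg
    exact congrArg π (Subtype.ext
      ((h g (show g * a = a * g from (hg a (by simp)).symm) (show g * b = b * g from (hg b (by simp)).symm)).eq.symm))
  rwa [fi22_center, Subgroup.mem_bot] at hc

/-- An element of the centralizer of a triangle commuting with all of it is in the triangle's group. -/
theorem tri_center {a b c k : G} (ha : a ∈ D) (ht : Triad D a b c) (h1 : Commute k a) (h2 : Commute k b)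
    (h3 : Commute k c) (h : ∀ g, Commute g a → Commute g b → Commute g c → Commute k g) :
    ∃ x, (x = 1 ∨ x = a ∨ x = b ∨ x = a * b) ∧ (k = x ∨ k = x * c) := by
  obtain ⟨F, _, _, hF, π, hs, hk⟩ := K.exists_tri_proj_at ha ht
  have hmem : ∀ g, Commute g a → Commute g b → Commute g c → g ∈ Subgroup.centralizer ({a, b, c} : Set G) :=
    fun g u v w => by
      rw [Subgroup.mem_centralizer_iff]
      rintro x (rfl | rfl | rfl)
      exacts [u.eq.symm, v.eq.symm, w.eq.symm]
  have hc : π ⟨k, hmem k h1 h2 h3⟩ ∈ Subgroup.center (Cfsg.PSU 6 F 2) := by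
    rw [Subgroup.mem_center_iff]
    intro x
    obtain ⟨⟨g, hg⟩, rfl⟩ := hs x
    rw [← map_mul, ← map_mul]
    rw [Subgroup.mem_centralizer_iff] at hg
    exact congrArg π (Subtype.ext ((h g (show g * a = a * g from (hg a (by simp)).symm)
      (show g * b = b * g from (hg b (by simp)).symm) (show g * c = c * g from (hg c (by simp)).symm)).eq.symm))
  rw [(psu_six_perfect hF).2, Subgroup.mem_bot] at hc
  have hcl := hk _ hc
  have hcc : ∀ x ∈ Subgroup.closure ({a, b} : Set G), Commute c x := fun x hx =>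
    (commute_iff_eq _ _).2 (Subgroup.mem_centralizer_singleton_iff.1 ((Subgroup.closure_le _).2 (by
      rintro y (rfl | rfl)
      exacts [Subgroup.mem_centralizer_singleton_iff.2 ht.dz.2.2.eq,
        Subgroup.mem_centralizer_singleton_iff.2 ht.yz.2.2.eq]) hx)).symm
  have hcsq : c * c = 1 := mul_self K.trans ht.dz.1
  suffices hgen : ∀ g ∈ Subgroup.closure ({a, b, c} : Set G), ∃ x ∈ Subgroup.closure ({a, b} : Set G),
      g = x ∨ g = x * c by
    obtain ⟨x, hx, hxe⟩ := hgen k hcl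
    exact ⟨x, closure_pair K.trans ha ht.dy.1 ht.dy.2.2 hx, hxe⟩
  intro g hg
  induction hg using Subgroup.closure_induction with
  | mem x hx =>
    rcases hx with rfl | rfl | rfl
    · exact ⟨x, Subgroup.subset_closure (by simp), Or.inl rfl⟩
    · exact ⟨x, Subgroup.subset_closure (by simp), Or.inl rfl⟩
    · exact ⟨1, one_mem _, Or.inr (one_mul _).symm⟩
  | one => exact ⟨1, one_mem _, Or.inl rfl⟩
  | mul u v _ _ ihu ihv =>
    obtain ⟨x, hx, rfl | rfl⟩ := ihu <;> obtain ⟨y, hy, rfl | rfl⟩ := ihv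
    · exact ⟨_, mul_mem hx hy, Or.inl rfl⟩
    · exact ⟨_, mul_mem hx hy, Or.inr (mul_assoc _ _ _).symm⟩
    · exact ⟨_, mul_mem hx hy, Or.inr (by rw [mul_assoc, (hcc _ hy).eq, mul_assoc])⟩
    · refine ⟨_, mul_mem hx hy, Or.inl ?_⟩
      rw [mul_assoc x, ← mul_assoc c, (hcc y hy).eq, mul_assoc y, hcsq, mul_one]
  | inv u _ ihu =>
    obtain ⟨x, hx, rfl | rfl⟩ := ihu
    · exact ⟨_, inv_mem hx, Or.inl rfl⟩
    · refine ⟨_, inv_mem hx, Or.inr ?_⟩
      rw [mul_inv_rev, inv_eq K.trans ht.dz.1, ((hcc x hx).inv_right).eq]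

/-- Members at a pair are determined up to the pair. -/
theorem eq_of_mod_pair {a b x x' : G} (ha : a ∈ D) (hb : b ∈ perp D a) (hx : x ∈ perp D a) (hxb : x ∈ perp D b)
    (hx' : x' ∈ D) (h : x⁻¹ * x' ∈ Subgroup.closure ({a, b} : Set G)) : x = x' := by
  obtain ⟨χ, hχ, -⟩ := K.exists_global
  rcases closure_pair K.trans ha hb.1 hb.2.2 h with e | e | e | e
  · exact inv_mul_eq_one.1 e
  · exfalso
    have h' := congrArg χ (inv_mul_eq_iff_eq_mul.1 e)
    rw [map_mul, hχ x hx.1, hχ x' hx', hχ a ha] at h'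
    exact absurd h' (by decide)
  · exfalso
    have h' := congrArg χ (inv_mul_eq_iff_eq_mul.1 e)
    rw [map_mul, hχ x hx.1, hχ x' hx', hχ b hb.1] at h'
    exact absurd h' (by decide)
  · by_contra hne
    have e' := inv_mul_eq_iff_eq_mul.1 e
    have hxx : Commute x x' := by
      rw [e']
      exact (Commute.refl x).mul_right (hx.2.2.symm.mul_right hxb.2.2.symm)
    have hiff := mem_iff_of_prod_eq K.trans K.noRel (l := [x, x']) (l' := [a, b]) (by simpa using hne)
      (by simp [hb.2.1.symm]) (by simp [hx.1, hx']) (by simp [ha, hb.1]) (by simp [hxx, hxx.symm])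
      (by simp [hb.2.2, hb.2.2.symm]) (by simp) (by simp)
      (by
        simp only [List.prod_cons, List.prod_nil, mul_one]
        rw [e', ← mul_assoc, mul_self K.trans hx.1, one_mul])
    have := (hiff x).1 (by simp)
    simp only [List.mem_cons, List.not_mem_nil, or_false] at this
    exact this.elim hx.2.1 hxb.2.1

/-- The centralizer of a pair is generated by the pair and its common neighbours. -/
theorem mem_gen {a b g : G} (ha : a ∈ D) (hb : b ∈ perp D a) (h1 : Commute g a) (h2 : Commute g b) :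
    g ∈ Subgroup.closure ({a, b} ∪ (perp D a ∩ perp D b)) := by
  have hg : g ∈ gen D ({a, b} : Set G) := K.pair_gen ha hb (by
    rw [Subgroup.mem_centralizer_iff]
    rintro x (rfl | rfl)
    exacts [h1.eq.symm, h2.eq.symm])
  refine Subgroup.closure_mono ?_ hg
  rintro x ⟨hx, hc⟩
  by_cases e1 : x = a
  · exact Or.inl (Or.inl e1)
  by_cases e2 : x = b
  · exact Or.inl (Or.inr e2)
  exact Or.inr ⟨⟨hx, e1, hc a (by simp)⟩, hx, e2, hc b (by simp)⟩

/-- An exchange of a pair agrees with no element of its centralizer on the common neighbours. -/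
theorem exchange_ne {a b s k : G} (ha : a ∈ D) (hb : b ∈ perp D a) (h1 : s * a * s⁻¹ = b) (h2 : s * b * s⁻¹ = a)
    (k1 : Commute k a) (k2 : Commute k b) : ∃ x ∈ perp D a ∩ perp D b, s * x * s⁻¹ ≠ k * x * k⁻¹ := by
  obtain ⟨x, hx, xa, xb, ca, cb, hne⟩ := K.exchange_moves (g := k⁻¹ * s) ha hb
    (by rw [show k⁻¹ * s * a * (k⁻¹ * s)⁻¹ = k⁻¹ * (s * a * s⁻¹) * k by group, h1, k2.inv_left.eq,
      inv_mul_cancel_right])
    (by rw [show k⁻¹ * s * b * (k⁻¹ * s)⁻¹ = k⁻¹ * (s * b * s⁻¹) * k by group, h2, k1.inv_left.eq,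
      inv_mul_cancel_right])
  refine ⟨x, ⟨⟨hx, xa, ca.symm⟩, hx, xb, cb.symm⟩, fun e => hne ?_⟩
  rw [show k⁻¹ * s * x * (k⁻¹ * s)⁻¹ = k⁻¹ * (s * x * s⁻¹) * k by group, e]
  group

/-- A multiplicative map exchanging a pair, permuting its common neighbours, moving like no inner map. -/
structure Outer (D : Set G) (a b : G) (α : G → G) : Prop where
  left : α a = b
  right : α b = a
  maps : ∀ g, Commute g a → Commute g b → Commute (α g) a ∧ Commute (α g) b
  mul : ∀ g h, Commute g a → Commute g b → Commute h a → Commute h b → α (g * h) = α g * α h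
  inj : ∀ g h, Commute g a → Commute g b → Commute h a → Commute h b → α g = α h → g = h
  perp : ∀ x ∈ perp D a ∩ perp D b, α x ∈ D
  ne : ∀ k, Commute k a → Commute k b → ∃ x ∈ Cfsg.Lib.Fischer.perp D a ∩ Cfsg.Lib.Fischer.perp D b,
    α x ≠ k * x * k⁻¹

theorem outer_conj {a b s : G} (ha : a ∈ D) (hb : b ∈ perp D a) (h1 : s * a * s⁻¹ = b) (h2 : s * b * s⁻¹ = a) :
    Outer D a b (fun g => s * g * s⁻¹) where
  left := h1
  right := h2
  maps g u v := ⟨h2 ▸ (Commute.conj_iff s).2 v, h1 ▸ (Commute.conj_iff s).2 u⟩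
  mul g h _ _ _ _ := by group
  inj g h _ _ _ _ e := conj_injective (x := s) e
  perp x hx := K.trans.conj s x hx.1.1
  ne k k1 k2 := exchange_ne K ha hb h1 h2 k1 k2

/-- Two exchanging maps differ by an inner one. -/
theorem exists_inner {a b : G} (ha : a ∈ D) (hb : b ∈ perp D a) {α α' : G → G} (A : Outer D a b α)
    (A' : Outer D a b α') : ∃ k, Commute k a ∧ Commute k b ∧
      ∀ g, Commute g a → Commute g b → α' (α g) = k * g * k⁻¹ := by
  obtain ⟨π, hs, hk⟩ := K.exists_pair_proj ha hb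
  have hcm : ∀ {g : G}, g ∈ Subgroup.centralizer ({a, b} : Set G) → Commute g a ∧ Commute g b := fun {g} hg => by
    rw [Subgroup.mem_centralizer_iff] at hg
    exact ⟨(hg a (by simp)).symm, (hg b (by simp)).symm⟩
  have hmem : ∀ g, Commute g a → Commute g b → g ∈ Subgroup.centralizer ({a, b} : Set G) := fun g u v => by
    rw [Subgroup.mem_centralizer_iff]
    rintro x (rfl | rfl)
    exacts [u.eq.symm, v.eq.symm]
  have hpi : ∀ g (hg : g ∈ Subgroup.centralizer ({a, b} : Set G)), g ∈ Subgroup.closure ({a, b} : Set G) →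
      π ⟨g, hg⟩ = 1 := by
    intro g hg h
    have hz : π ⟨g, hg⟩ ∈ Subgroup.center Fi22 := by
      rw [Subgroup.mem_center_iff]
      intro x
      obtain ⟨⟨u, hu⟩, rfl⟩ := hs x
      rw [← map_mul, ← map_mul]
      refine congrArg π (Subtype.ext (show u * g = g * u from ?_))
      obtain ⟨ua, ub⟩ := hcm hu
      rcases closure_pair K.trans ha hb.1 hb.2.2 h with rfl | rfl | rfl | rfl
      exacts [Commute.one_right u, ua, ub, ua.mul_right ub]
    rwa [fi22_center, Subgroup.mem_bot] at hz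
  have hfin : Finite Fi22 := Finite.of_surjective π hs
  have perpP : ∀ {β : G → G}, Outer D a b β → ∀ x ∈ perp D a ∩ perp D b, β x ∈ perp D a ∩ perp D b := by
    intro β B x hx
    have u := hx.1.2.2.symm
    have v := hx.2.2.2.symm
    obtain ⟨m1, m2⟩ := B.maps x u v
    exact ⟨⟨B.perp x hx, fun e => hx.2.2.1 (B.inj x b u v hb.2.2.symm (Commute.refl b) (e.trans B.right.symm)),
      m1.symm⟩, B.perp x hx, fun e => hx.1.2.1 (B.inj x a u v (Commute.refl a) hb.2.2 (e.trans B.left.symm)),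
      m2.symm⟩
  -- members are separated by the projection
  have sep : ∀ x ∈ perp D a ∩ perp D b, ∀ x', x' ∈ D → ∀ (h : x ∈ Subgroup.centralizer ({a, b} : Set G))
      (h' : x' ∈ Subgroup.centralizer ({a, b} : Set G)), π ⟨x, h⟩ = π ⟨x', h'⟩ → x = x' := by
    intro x hx x' hx' h h' e
    refine eq_of_mod_pair K ha hb hx.1 hx.2 hx' ?_
    exact hk (⟨x, h⟩⁻¹ * ⟨x', h'⟩) (by rw [map_mul, map_inv, e, inv_mul_cancel])
  -- the induced automorphisms
  have down : ∀ {β : G → G}, Outer D a b β → ∃ A : MulAut Fi22, A ∉ Cfsg.Inn Fi22 ∧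
      ∀ g (hg : g ∈ Subgroup.centralizer ({a, b} : Set G)) (hg' : β g ∈ Subgroup.centralizer ({a, b} : Set G)),
        A (π ⟨g, hg⟩) = π ⟨β g, hg'⟩ := by
    intro β B
    have hm : ∀ g, g ∈ Subgroup.centralizer ({a, b} : Set G) → β g ∈ Subgroup.centralizer ({a, b} : Set G) :=
      fun g hg => hmem _ (B.maps g (hcm hg).1 (hcm hg).2).1 (B.maps g (hcm hg).1 (hcm hg).2).2
    obtain ⟨f, hf⟩ : ∃ f : ↥(Subgroup.centralizer ({a, b} : Set G)) →* ↥(Subgroup.centralizer ({a, b} : Set G)),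
        ∀ g, (f g : G) = β g :=
      ⟨MonoidHom.mk' (fun g => ⟨β g, hm g g.2⟩) fun g h => Subtype.ext
        (B.mul g h (hcm g.2).1 (hcm g.2).2 (hcm h.2).1 (hcm h.2).2), fun g => rfl⟩
    have hfs : Function.Surjective f := Finite.surjective_of_injective fun g h e => Subtype.ext
      (B.inj g h (hcm g.2).1 (hcm g.2).2 (hcm h.2).1 (hcm h.2).2 (by rw [← hf, ← hf, e]))
    have hker : π.ker ≤ (π.comp f).ker := by
      rintro ⟨g, hg⟩ h
      rw [MonoidHom.mem_ker, MonoidHom.comp_apply]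
      have hg1 := hk _ (MonoidHom.mem_ker.1 h)
      refine (congrArg π (Subtype.ext (hf ⟨g, hg⟩) : f ⟨g, hg⟩ = ⟨β g, hm g hg⟩)).trans (hpi _ _ ?_)
      have h1 : β 1 = 1 := by
        have := B.mul 1 1 (Commute.one_left a) (Commute.one_left b) (Commute.one_left a) (Commute.one_left b)
        rw [one_mul] at this
        exact left_eq_mul.1 this
      have haC : a ∈ Subgroup.closure ({a, b} : Set G) := Subgroup.subset_closure (by simp)
      have hbC : b ∈ Subgroup.closure ({a, b} : Set G) := Subgroup.subset_closure (by simp)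
      rcases closure_pair K.trans ha hb.1 hb.2.2 hg1 with e | e | e | e <;> simp only at e <;> subst e
      · show β 1 ∈ _; rw [h1]; exact one_mem _
      · show β g ∈ _; rw [B.left]; exact hbC
      · show β g ∈ _; rw [B.right]; exact haC
      · show β (a * b) ∈ _
        rw [B.mul a b (Commute.refl a) hb.2.2 hb.2.2.symm (Commute.refl b), B.left, B.right]
        exact mul_mem hbC haC
    obtain ⟨A₀, hA₀⟩ : ∃ A₀ : Fi22 →* Fi22, A₀ = MonoidHom.liftOfSurjective π hs ⟨π.comp f, hker⟩ := ⟨_, rfl⟩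
    have hA : ∀ g, A₀ (π g) = π (f g) := fun g => by
      rw [hA₀]; exact MonoidHom.liftOfRightInverse_comp_apply _ _ _ _ g
    have hA₀s : Function.Surjective A₀ := fun y => by
      obtain ⟨g, rfl⟩ := hs y
      obtain ⟨g', rfl⟩ := hfs g
      exact ⟨π g', hA g'⟩
    refine ⟨MulEquiv.ofBijective A₀ ⟨Finite.injective_iff_surjective.2 hA₀s, hA₀s⟩, ?_, fun g hg hg' => ?_⟩
    · rintro ⟨u, hu⟩
      obtain ⟨⟨k, hk'⟩, rfl⟩ := hs u
      obtain ⟨x, hx, hne⟩ := B.ne k (hcm hk').1 (hcm hk').2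
      have hxC : x ∈ Subgroup.centralizer ({a, b} : Set G) := hmem x hx.1.2.2.symm hx.2.2.2.symm
      refine hne (sep _ (perpP B x hx) _ (K.trans.conj k x hx.1.1) (hm x hxC)
        (mul_mem (mul_mem hk' hxC) (inv_mem hk')) ?_)
      have e := congrArg (fun t : MulAut Fi22 => t (π ⟨x, hxC⟩)) hu
      simp only [MulAut.conj_apply] at e
      change _ = A₀ _ at e
      rw [hA, ← map_inv, ← map_mul, ← map_mul] at e
      exact (congrArg π (Subtype.ext (hf ⟨x, hxC⟩).symm)).trans e.symm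
    · show A₀ _ = _
      rw [hA]
      exact congrArg π (Subtype.ext (hf ⟨g, hg⟩))
  obtain ⟨A₁, hn₁, hA₁⟩ := down A
  obtain ⟨A₂, hn₂, hA₂⟩ := down A'
  have hidx : (Cfsg.Inn Fi22).index = 2 := CosetEnum.Fi22Out.card_out
  obtain ⟨u, hu⟩ : A₂ * A₁ ∈ Cfsg.Inn Fi22 :=
    (Subgroup.mul_mem_iff_of_index_two hidx).2 ⟨fun h => absurd h hn₂, fun h => absurd h hn₁⟩
  obtain ⟨⟨k, hk'⟩, rfl⟩ := hs u
  obtain ⟨k1, k2⟩ := hcm hk'
  have hgenC : Subgroup.closure ({a, b} ∪ (perp D a ∩ perp D b)) ≤ Subgroup.centralizer ({a, b} : Set G) := by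
    refine (Subgroup.closure_le _).2 ?_
    rintro x ((rfl | rfl) | hx)
    exacts [hmem _ (Commute.refl _) hb.2.2, hmem _ hb.2.2.symm (Commute.refl _),
      hmem _ hx.1.2.2.symm hx.2.2.2.symm]
  refine ⟨k, k1, k2, fun g g1 g2 => ext_closure (f := fun g => α' (α g)) (f' := fun g => k * g * k⁻¹) ?_
    (fun g _ h _ => by group) ?_ (mem_gen K ha hb g1 g2)⟩
  · intro g hg h hh
    obtain ⟨g1, g2⟩ := hcm (hgenC hg)
    obtain ⟨h1, h2⟩ := hcm (hgenC hh)
    show α' (α (g * h)) = _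
    rw [A.mul g h g1 g2 h1 h2, A'.mul _ _ (A.maps g g1 g2).1 (A.maps g g1 g2).2 (A.maps h h1 h2).1 (A.maps h h1 h2).2]
  · rintro x ((rfl | rfl) | hx)
    · show α' (α x) = _
      rw [A.left, A'.right, k1.eq, mul_inv_cancel_right]
    · show α' (α x) = _
      rw [A.right, A'.left, k2.eq, mul_inv_cancel_right]
    · obtain ⟨m1, m2⟩ := A.maps x hx.1.2.2.symm hx.2.2.2.symm
      have hxC : x ∈ Subgroup.centralizer ({a, b} : Set G) := hmem x hx.1.2.2.symm hx.2.2.2.symm
      have hyC := hmem _ m1 m2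
      have hp := perpP A' _ (perpP A x hx)
      refine sep _ hp _ (K.trans.conj k x hx.1.1) (hmem _ hp.1.2.2.symm hp.2.2.2.symm)
        (mul_mem (mul_mem hk' hxC) (inv_mem hk')) ?_
      rw [← hA₂ _ hyC, ← hA₁ _ hxC]
      have e := congrArg (fun t : MulAut Fi22 => t (π ⟨x, hxC⟩)) hu
      simp only [MulAut.conj_apply, MulAut.mul_apply] at e
      rw [← map_inv, ← map_mul, ← map_mul] at e
      exact e.symm

end Exchange

open Exchange

variable {G₁ : Type u} {G₂ : Type v} [Group G₁] [Finite G₁] [Group G₂] [Finite G₂]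
  {D₁ : Set G₁} {d₁ : G₁} {D₂ : Set G₂} {d₂ : G₂} {φ : G₁ → G₂}

/-- Conjugations by a pair of elements corresponding at `g`. -/
def Str (φ : G₁ → G₂) (p : G₁ × G₂) (g : G₁) : Prop := φ (p.1 * g * p.1⁻¹) = p.2 * φ g * p.2⁻¹

omit [Finite G₁] [Finite G₂] in
theorem Str.mul {p q : G₁ × G₂} {g : G₁} (hq : Str φ q g) (hp : Str φ p (q.1 * g * q.1⁻¹)) : Str φ (p * q) g := by
  show φ (p.1 * q.1 * g * (p.1 * q.1)⁻¹) = p.2 * q.2 * φ g * (p.2 * q.2)⁻¹
  rw [show p.1 * q.1 * g * (p.1 * q.1)⁻¹ = p.1 * (q.1 * g * q.1⁻¹) * p.1⁻¹ by group, hp, hq]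
  group

/-- An exchange in the first group is matched by one in the second. -/
theorem exists_match (K₁ : M24Data D₁ d₁) (K₂ : M24Data D₂ d₂) (P : Twin D₁ d₁ D₂ d₂ φ) {a s : G₁}
    (ha : a ∈ perp D₁ d₁) (hs : s * s = 1) (hsd : s * d₁ * s = a) :
    ∃ s₂ : G₂, s₂ * s₂ = 1 ∧ s₂ * d₂ * s₂ = φ a ∧ ∀ g, Commute g d₁ → Commute g a → Str φ (s, s₂) g := by
  have hsi : s⁻¹ = s := inv_eq_of_mul_eq_one_right hs
  have hsa : s * a * s = d₁ := conj_self_mul hs hsd
  have hda : Commute d₁ a := ha.2.2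
  have hb := P.mem ha
  obtain ⟨y, hy, hdy, hby⟩ := exists_far_both K₂ hb
  obtain ⟨p, q, -, -, -, -, -, -, hσ, hσd, hσb⟩ :=
    swap_pair K₂.trans K₂.mem hb.1 hy hb.2.2 hb.2.1.symm hdy hby
  obtain ⟨σ, hσdef⟩ : ∃ σ, σ = p * q := ⟨_, rfl⟩
  rw [← hσdef] at hσ hσd hσb
  have hσi : σ⁻¹ = σ := inv_eq_of_mul_eq_one_right hσ
  have A' : Outer D₂ d₂ (φ a) fun g => σ * g * σ⁻¹ :=
    outer_conj K₂ K₂.mem hb (by rw [hσi, hσd]) (by rw [hσi, hσb])
  choose! ι hι using P.surj
  have hιφ : ∀ g, Commute g d₁ → ι (φ g) = g := fun g hg =>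
    P.inj _ _ (hι _ (P.maps g hg)).1 hg (hι _ (P.maps g hg)).2
  have hι2 : ∀ k, Commute k d₂ → Commute k (φ a) → Commute (ι k) a := fun k h1 h2 =>
    (P.commute_iff (hι k h1).1 hda.symm).1 (by rwa [(hι k h1).2])
  have hpres : ∀ g, Commute g d₁ → Commute g a → Commute (s * g * s) d₁ ∧ Commute (s * g * s) a := fun g h1 h2 => by
    have u := (Commute.conj_iff s).2 h1
    have v := (Commute.conj_iff s).2 h2
    rw [hsi, hsd] at u
    rw [hsi, hsa] at v
    exact ⟨v, u⟩
  obtain ⟨α, hαdef⟩ : ∃ α : G₂ → G₂, α = fun k => φ (s * ι k * s) := ⟨_, rfl⟩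
  have hα : ∀ g, Commute g d₁ → α (φ g) = φ (s * g * s) := fun g hg => by rw [hαdef]; simp only [hιφ g hg]
  have A : Outer D₂ d₂ (φ a) α := by
    refine ⟨?_, ?_, ?_, ?_, ?_, ?_, ?_⟩
    · rw [← P.base, hα _ (Commute.refl _), hsd]
    · rw [hα _ hda.symm, hsa, P.base]
    · intro k h1 h2
      obtain ⟨u, v⟩ := hpres _ (hι k h1).1 (hι2 k h1 h2)
      rw [hαdef]
      exact ⟨P.maps _ u, (P.commute_iff u hda.symm).2 v⟩
    · intro k l k1 k2 l1 l2
      obtain ⟨u, -⟩ := hpres _ (hι k k1).1 (hι2 k k1 k2)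
      obtain ⟨v, -⟩ := hpres _ (hι l l1).1 (hι2 l l1 l2)
      have hkl : ι (k * l) = ι k * ι l := by
        conv_lhs => rw [← (hι k k1).2, ← (hι l l1).2, ← P.mul _ _ (hι k k1).1 (hι l l1).1]
        exact hιφ _ ((hι k k1).1.mul_left (hι l l1).1)
      rw [hαdef]
      simp only
      rw [← P.mul _ _ u v, hkl, show s * (ι k) * s * (s * ι l * s) = s * ι k * (s * s) * ι l * s by group, hs]
      group
    · intro k l k1 k2 l1 l2 e
      rw [hαdef] at e
      have := P.inj _ _ (hpres _ (hι k k1).1 (hι2 k k1 k2)).1 (hpres _ (hι l l1).1 (hι2 l l1 l2)).1 e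
      rw [← (hι k k1).2, ← (hι l l1).2, mul_left_cancel (mul_right_cancel this)]
    · intro x hx
      obtain ⟨g, hg, rfl⟩ := P.exists_pre hx.1
      have hga : Commute g a := (P.commute_iff hg.2.2.symm hda.symm).1 hx.2.2.2.symm
      rw [hα g hg.2.2.symm]
      refine (P.mem (x := s * g * s) ⟨?_, fun e => ?_, (hpres g hg.2.2.symm hga).1.symm⟩).1
      · simpa [hsi] using K₁.trans.conj s g hg.1
      · refine hx.2.2.1 (congrArg φ ?_)
        rw [← conj_self_mul hs e, hsd]
    · intro k k1 k2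
      obtain ⟨x, hx, hne⟩ := exchange_ne K₁ K₁.mem ha (s := s) (by rw [hsi, hsd]) (by rw [hsi, hsa])
        (hι k k1).1 (hι2 k k1 k2)
      refine ⟨φ x, ⟨P.mem hx.1, (P.mem hx.1).1, fun e => hx.2.2.1 (P.inj _ _ hx.1.2.2.symm hda.symm e),
        (P.commute_iff hda.symm hx.1.2.2.symm).2 hx.2.2.2⟩, fun e => hne ?_⟩
      rw [hα x hx.1.2.2.symm] at e
      conv_rhs at e => rw [← (hι k k1).2, ← P.map_conj (hι k k1).1 hx.1.2.2.symm]
      rw [hsi]
      exact P.inj _ _ (hpres x hx.1.2.2.symm hx.2.2.2.symm).1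
        (((hι k k1).1.mul_left hx.1.2.2.symm).mul_left (hι k k1).1.inv_left) e
  obtain ⟨k, k1, k2, hk⟩ := exists_inner K₂ K₂.mem hb A A'
  have hσk : ∀ g, Commute g d₁ → Commute g a → φ (s * g * s) = σ * k * φ g * (σ * k)⁻¹ := fun g h1 h2 => by
    have := hk (φ g) (P.maps g h1) ((P.commute_iff h1 hda.symm).2 h2)
    rw [hα g h1] at this
    simp only [hσi] at this
    rw [mul_inv_rev, hσi, show σ * k * φ g * (k⁻¹ * σ) = σ * (k * φ g * k⁻¹) * σ by group, ← this,
      show σ * (σ * φ (s * g * s) * σ) * σ = σ * σ * φ (s * g * s) * (σ * σ) by group, hσ]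
    group
  obtain ⟨r, hr⟩ : ∃ r, r = σ * k := ⟨_, rfl⟩
  rw [← hr] at hσk
  have rd : r * d₂ * r⁻¹ = φ a := by
    have := hσk d₁ (Commute.refl _) hda
    rwa [P.base, hsd, eq_comm] at this
  have rb : r * φ a * r⁻¹ = d₂ := by
    have := hσk a hda.symm (Commute.refl _)
    rwa [hsa, P.base, eq_comm] at this
  have hcomm2 : ∀ g, Commute g d₂ → Commute g (φ a) → Commute (r * r) g := fun g g1 g2 => by
    obtain ⟨h1, h2⟩ := hι g g1
    have h3 := hι2 g g1 g2
    obtain ⟨u, v⟩ := hpres _ h1 h3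
    have e1 := hσk _ u v
    rw [show s * (s * ι g * s) * s = s * s * ι g * (s * s) by group, hs, one_mul, mul_one, hσk _ h1 h3, h2] at e1
    refine mul_inv_eq_iff_eq_mul.1 ?_
    rw [show r * r * g * (r * r)⁻¹ = r * (r * g * r⁻¹) * r⁻¹ by group, ← e1]
  have r2d : Commute (r * r) d₂ := hcomm2 d₂ (Commute.refl _) hb.2.2
  have r2b : Commute (r * r) (φ a) := hcomm2 _ hb.2.2.symm (Commute.refl _)
  have hne : d₂ ≠ φ a := hb.2.1.symm
  have rrr : r * (r * r) * r⁻¹ = r * r := by group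
  rcases pair_center K₂ K₂.mem hb r2d r2b hcomm2 with e | e | e | e
  · have hri : r⁻¹ = r := inv_eq_of_mul_eq_one_right e
    refine ⟨r, e, by rw [← rd, hri], fun g g1 g2 => ?_⟩
    show φ (s * g * s⁻¹) = r * φ g * r⁻¹
    rw [hsi]
    exact hσk g g1 g2
  · rw [e, rd] at rrr
    exact absurd rrr.symm hne
  · rw [e, rb] at rrr
    exact absurd rrr hne
  · refine ⟨r * d₂, ?_, ?_, fun g g1 g2 => ?_⟩
    · rw [show r * d₂ * (r * d₂) = r * d₂ * r⁻¹ * (r * r) * d₂ by group, rd, e, hb.2.2.eq,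
        show φ a * (φ a * d₂) * d₂ = φ a * φ a * (d₂ * d₂) by group, mul_self K₂.trans hb.1,
        mul_self K₂.trans K₂.mem, one_mul]
    · rw [show r * d₂ * d₂ * (r * d₂) = r * (d₂ * d₂) * r * d₂ by group, mul_self K₂.trans K₂.mem, mul_one, e,
        show d₂ * φ a * d₂ = φ a * (d₂ * d₂) by rw [hb.2.2.eq, mul_assoc], mul_self K₂.trans K₂.mem, mul_one]
    · show φ (s * g * s⁻¹) = r * d₂ * φ g * (r * d₂)⁻¹
      rw [hsi, hσk g g1 g2, show r * d₂ * φ g * (r * d₂)⁻¹ = r * (d₂ * φ g * d₂⁻¹) * r⁻¹ by group,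
        (P.maps g g1).eq.symm, mul_inv_cancel_right]

end Cfsg.Lib.Fischer.M24
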